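import Cfsg.Agent.Lib.Grp.Wielandt.Main

/-!
Kegel's theorem: a product of two nilpotent subgroups is solvable, and has a proper normal subgroup
containing one of the factors.
-/

set_option autoImplicit false
set_option linter.style.haveILetI false
set_option linter.unusedSectionVars false

namespace Cfsg.Agent.Grp.Wielandt

open scoped Pointwise
open Subgroup

universe u

variable {G : Type u} [Group G] [Finite G]

theorem relIndex_eq_of_product {X U W : Subgroup G} (hU : U ≤ X) (hW : W ≤ X)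
    (h : ∀ x ∈ X, ∃ u ∈ U, ∃ w ∈ W, x = u * w) : W.relIndex X = W.relIndex U := by
  refine le_antisymm ?_ ((Subgroup.relIndex_le_of_le_right hU) (W.subgroupOf X).index_ne_zero_of_finite)
  let f : U ⧸ W.subgroupOf U → X ⧸ W.subgroupOf X :=
    Quotient.map' (fun u : U => (⟨u, hU u.2⟩ : X)) fun a b hab => by
      rw [QuotientGroup.leftRel_apply] at hab ⊢
      exact hab
  refine Nat.card_le_card_of_surjective f fun q => ?_
  induction q using QuotientGroup.induction_on with
  | H x =>
    obtain ⟨u, hu, w, hw, e⟩ := h x x.2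
    refine ⟨(⟨u, hu⟩ : U), QuotientGroup.eq.2 ?_⟩
    rw [mem_subgroupOf]
    simp only [coe_mul, InvMemClass.coe_inv, e, inv_mul_cancel_left]
    exact hw

theorem isPGroup_of_product {p : ℕ} [hp : Fact p.Prime] {X U W : Subgroup G} (hU : U ≤ X) (hW : W ≤ X)
    (hUp : IsPGroup p U) (hWp : IsPGroup p W) (h : ∀ x ∈ X, ∃ u ∈ U, ∃ w ∈ W, x = u * w) :
    IsPGroup p X := by
  obtain ⟨i, hi⟩ := hWp.exists_card_eq
  obtain ⟨j, hj⟩ := hUp.index (W.subgroupOf U)
  refine IsPGroup.of_card (n := i + j) ?_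
  rw [← card_mul_relIndex hW, relIndex_eq_of_product hU hW h, relIndex, hi, hj, pow_add]

/-- Sylow subgroups of the nilpotent factors form a Sylow subgroup of the product. -/
theorem exists_part_product {A B : Subgroup G} (hA : Group.IsNilpotent A) (hB : Group.IsNilpotent B)
    (hfac : ∀ g : G, ∃ a ∈ A, ∃ b ∈ B, g = a * b) (p : ℕ) [hp : Fact p.Prime] :
    ∃ P : Subgroup G, IsPGroup p P ∧ part A p ≤ P ∧ part B p ≤ P ∧
      ∀ x ∈ P, ∃ a ∈ part A p, ∃ b ∈ part B p, x = a * b := by
  obtain ⟨P₁, hP₁⟩ := ((pCore_isPGroup (p := p) (G := A)).map A.subtype).exists_le_sylow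
  obtain ⟨P₂, hP₂⟩ := ((pCore_isPGroup (p := p) (G := B)).map B.subtype).exists_le_sylow
  obtain ⟨g, hg⟩ := MulAction.exists_smul_eq G P₂ P₁
  obtain ⟨a, ha, b, hb, rfl⟩ := hfac g
  set P : Subgroup G := MulAut.conj a⁻¹ • (P₁ : Subgroup G) with hP
  have hA' : ∀ x ∈ A, x ∈ normalizer (part A p : Set G) := fun x hx => by
    refine mem_normalizer_of_le ?_
    rw [← map_conj_eq_smul]
    rintro _ ⟨f, hf, rfl⟩
    obtain ⟨n, hn⟩ := exists_pow_of_mem_part hf
    refine mem_part hA (A.mul_mem (A.mul_mem hx (map_subtype_le _ hf)) (A.inv_mem hx)) (n := n) ?_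
    simp only [MulEquiv.coe_toMonoidHom, MulAut.conj_apply]
    rw [conj_pow, hn, mul_one, mul_inv_cancel]
  have hB' : ∀ x ∈ B, x ∈ normalizer (part B p : Set G) := fun x hx => by
    refine mem_normalizer_of_le ?_
    rw [← map_conj_eq_smul]
    rintro _ ⟨f, hf, rfl⟩
    obtain ⟨n, hn⟩ := exists_pow_of_mem_part hf
    refine mem_part hB (B.mul_mem (B.mul_mem hx (map_subtype_le _ hf)) (B.inv_mem hx)) (n := n) ?_
    simp only [MulEquiv.coe_toMonoidHom, MulAut.conj_apply]
    rw [conj_pow, hn, mul_one, mul_inv_cancel]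
  have hAP : part A p ≤ P := by
    rw [← mem_normalizer_iff_smul.1 (hA' a⁻¹ (A.inv_mem ha))]
    exact pointwise_smul_le_pointwise_smul_iff.2 hP₁
  have hBP : part B p ≤ P := by
    rw [hP, ← hg, Sylow.coe_subgroup_smul, smul_smul, ← map_mul, inv_mul_cancel_left]
    conv_lhs => rw [← mem_normalizer_iff_smul.1 (hB' b hb)]
    exact pointwise_smul_le_pointwise_smul_iff.2 hP₂
  have hPp : IsPGroup p P := P₁.isPGroup'.map _
  refine ⟨P, hPp, hAP, hBP, ?_⟩
  -- indices
  set v : ℕ → ℕ := fun n => n.factorization p with hv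
  have hcardP : Nat.card P = p ^ v (Nat.card G) := by
    rw [hP, card_conj_smul, P₁.card_eq_multiplicity]
  have hpart : ∀ {C : Subgroup G}, Group.IsNilpotent C → Nat.card (part C p) = p ^ v (Nat.card C) := by
    intro C hC
    obtain ⟨Q⟩ : Nonempty (Sylow p C) := Sylow.nonempty
    rw [← sylow_map_eq_part hC Q, card_map_of_injective C.subtype_injective, Q.card_eq_multiplicity]
  have hAB : Nat.card A * B.relIndex A = Nat.card A * B.relIndex A := rfl
  have hidx : B.relIndex A = B.index := by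
    rw [← relIndex_top_right]
    exact (relIndex_eq_of_product le_top le_top fun g _ => hfac g).symm
  have hsub : p ^ v (Nat.card G) ≤
      Nat.card (part B p) * (part B p).relIndex (part A p) := by
    have h1 : Nat.card G = Nat.card B * B.relIndex A := by rw [hidx, card_mul_index]
    have h2 : Nat.card A = Nat.card (B ⊓ A : Subgroup G) * B.relIndex A := by
      rw [← inf_relIndex_right, card_mul_relIndex inf_le_right]
    have h3 : Nat.card (part A p) =
        Nat.card (part B p ⊓ part A p : Subgroup G) * (part B p).relIndex (part A p) := by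
      rw [← inf_relIndex_right, card_mul_relIndex inf_le_right]
    obtain ⟨i, hi⟩ := (((pCore_isPGroup (p := p) (G := A)).map A.subtype).to_le
      (inf_le_right : part B p ⊓ part A p ≤ part A p)).exists_card_eq
    have hile : i ≤ v (Nat.card (B ⊓ A : Subgroup G)) :=
      (hp.out.pow_dvd_iff_le_factorization Nat.card_pos.ne').1
        (hi ▸ card_dvd_of_le (inf_le_inf (map_subtype_le _) (map_subtype_le _)))
    have hne : B.relIndex A ≠ 0 := (B.subgroupOf A).index_ne_zero_of_finite
    have e1 : v (Nat.card G) = v (Nat.card B) + v (B.relIndex A) := by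
      simp only [hv, h1, Nat.factorization_mul Nat.card_pos.ne' hne, Finsupp.add_apply]
    have e2 : v (Nat.card A) = v (Nat.card (B ⊓ A : Subgroup G)) + v (B.relIndex A) := by
      simp only [hv]
      conv_lhs => rw [h2, Nat.factorization_mul Nat.card_pos.ne' hne, Finsupp.add_apply]
    rw [hi, hpart hA] at h3
    rw [hpart hB]
    refine Nat.le_of_mul_le_mul_left ?_ (pow_pos hp.out.pos i)
    calc p ^ i * p ^ v (Nat.card G) = p ^ (i + v (Nat.card G)) := by rw [pow_add]
      _ ≤ p ^ (v (Nat.card B) + v (Nat.card A)) := by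
          refine Nat.pow_le_pow_right hp.out.pos ?_
          omega
      _ = p ^ i * (p ^ v (Nat.card B) * (part B p).relIndex (part A p)) := by
          rw [pow_add, h3]; ring
  have hfull : (part B p).relIndex P ≤ (part B p).relIndex (part A p) := by
    refine Nat.le_of_mul_le_mul_left ?_ (Nat.card_pos (α := part B p))
    rw [card_mul_relIndex hBP, hcardP]
    exact hsub
  intro x hx
  let f : (part A p) ⧸ (part B p).subgroupOf (part A p) → P ⧸ (part B p).subgroupOf P :=
    Quotient.map' (fun u : part A p => (⟨u, hAP u.2⟩ : P)) fun a b hab => by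
      rw [QuotientGroup.leftRel_apply] at hab ⊢
      exact hab
  have hinj : Function.Injective f := by
    intro q q' hqq
    induction q using QuotientGroup.induction_on with
    | H u =>
      induction q' using QuotientGroup.induction_on with
      | H u' =>
        have h1 := QuotientGroup.eq.1
          (show ((⟨u, hAP u.2⟩ : P) : P ⧸ (part B p).subgroupOf P) = ((⟨u', hAP u'.2⟩ : P) : _) from hqq)
        exact QuotientGroup.eq.2 (mem_subgroupOf.2 (by simpa [mem_subgroupOf] using h1))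
  obtain ⟨q, hq⟩ := (hinj.bijective_of_nat_card_le hfull).2 ((⟨x, hx⟩ : P) : P ⧸ _)
  induction q using QuotientGroup.induction_on with
  | H u =>
    have h := QuotientGroup.eq.1 (show ((⟨u, hAP u.2⟩ : P) : P ⧸ (part B p).subgroupOf P) = _ from hq)
    exact ⟨u, u.2, (u : G)⁻¹ * x, h, (mul_inv_cancel_left _ _).symm⟩

/-- `U` permutes with every conjugate of `V`. -/
def Perm (U V : Subgroup G) : Prop :=
  ∀ g : G, ∀ u ∈ U, ∀ v ∈ MulAut.conj g • V, ∃ v' ∈ MulAut.conj g • V, ∃ u' ∈ U, u * v = v' * u'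

theorem Perm.conj {U V : Subgroup G} (h : Perm U V) (x : G) : Perm (MulAut.conj x • U) V := by
  intro g u hu v hv
  rw [mem_smul_conj] at hu
  have hv' : x⁻¹ * v * x ∈ MulAut.conj (x⁻¹ * g) • V := by
    rw [mem_smul_conj] at hv ⊢
    convert hv using 1; group
  obtain ⟨v', hv'', u', hu', e⟩ := h _ _ hu _ hv'
  refine ⟨x * v' * x⁻¹, ?_, x * u' * x⁻¹, ?_, ?_⟩
  · rw [mem_smul_conj] at hv'' ⊢
    convert hv'' using 1; group
  · rw [mem_smul_conj]; convert hu' using 1; group
  · have := congrArg (fun y => x * y * x⁻¹) e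
    simpa [mul_assoc] using this

theorem Perm.sup {U U' V : Subgroup G} (h : Perm U V) (h' : Perm U' V) : Perm (U ⊔ U') V := by
  intro g u hu
  rw [sup_eq_closure] at hu
  induction hu using closure_induction_left with
  | one => exact fun v hv => ⟨v, hv, 1, one_mem _, by simp⟩
  | mul_left x hx y _ ih =>
    intro v hv
    obtain ⟨v₁, hv₁, u₁, hu₁, e₁⟩ := ih v hv
    rcases hx with hx | hx
    · obtain ⟨v₂, hv₂, u₂, hu₂, e₂⟩ := h g x hx v₁ hv₁
      exact ⟨v₂, hv₂, u₂ * u₁, mul_mem (mem_sup_left hu₂) hu₁, by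
        rw [mul_assoc, e₁, ← mul_assoc, e₂, mul_assoc]⟩
    · obtain ⟨v₂, hv₂, u₂, hu₂, e₂⟩ := h' g x hx v₁ hv₁
      exact ⟨v₂, hv₂, u₂ * u₁, mul_mem (mem_sup_right hu₂) hu₁, by
        rw [mul_assoc, e₁, ← mul_assoc, e₂, mul_assoc]⟩
  | inv_mul_cancel x hx y _ ih =>
    intro v hv
    obtain ⟨v₁, hv₁, u₁, hu₁, e₁⟩ := ih v hv
    rcases hx with hx | hx
    · obtain ⟨v₂, hv₂, u₂, hu₂, e₂⟩ := h g x⁻¹ (U.inv_mem hx) v₁ hv₁
      exact ⟨v₂, hv₂, u₂ * u₁, mul_mem (mem_sup_left hu₂) hu₁, by
        rw [mul_assoc, e₁, ← mul_assoc, e₂, mul_assoc]⟩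
    · obtain ⟨v₂, hv₂, u₂, hu₂, e₂⟩ := h' g x⁻¹ (U'.inv_mem hx) v₁ hv₁
      exact ⟨v₂, hv₂, u₂ * u₁, mul_mem (mem_sup_right hu₂) hu₁, by
        rw [mul_assoc, e₁, ← mul_assoc, e₂, mul_assoc]⟩

/-- Two `p`-subgroups permuting with each other's conjugates commute modulo `O_p`. -/
theorem commute_of_perm {p : ℕ} [Fact p.Prime] (hcore : Cfsg.pCore p G = ⊥) {U V : Subgroup G}
    (hU : IsPGroup p U) (hV : IsPGroup p V) (h : Perm U V) :
    U ≤ centralizer ((normalClosure (V : Set G) : Subgroup G) : Set G) := by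
  classical
  haveI : Fintype (Subgroup G) := Fintype.ofFinite _
  obtain ⟨M, hM, hmax⟩ := Finset.exists_max_image
    (Finset.univ.filter fun X : Subgroup G => U ≤ X ∧ IsPGroup p X ∧ Perm X V) (fun X => Nat.card X)
    ⟨U, by simp [hU, h]⟩
  obtain ⟨hUM, hMp, hMperm⟩ := (Finset.mem_filter.1 hM).2
  have hnorm : ∀ g : G, MulAut.conj g • V ≤ normalizer (M : Set G) := by
    intro g x hx
    set W := MulAut.conj g • V with hW
    have hWp : IsPGroup p W := by rw [hW, ← map_conj_eq_smul]; exact hV.map _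
    let T : Subgroup G :=
      { carrier := {y | ∃ u ∈ M, ∃ w ∈ W, y = u * w}
        one_mem' := ⟨1, M.one_mem, 1, W.one_mem, by simp⟩
        mul_mem' := by
          rintro _ _ ⟨u, hu, w, hw, rfl⟩ ⟨u', hu', w', hw', rfl⟩
          obtain ⟨w'', hw'', u'', hu'', e⟩ := hMperm g u'⁻¹ (M.inv_mem hu') w⁻¹ (W.inv_mem hw)
          refine ⟨u * u''⁻¹, M.mul_mem hu (M.inv_mem hu''), w''⁻¹ * w', W.mul_mem (W.inv_mem hw'') hw', ?_⟩
          have e' : w * u' = u''⁻¹ * w''⁻¹ := by
            rw [← mul_inv_rev, ← e, mul_inv_rev, inv_inv, inv_inv]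
          rw [mul_assoc u, ← mul_assoc w, e']; group
        inv_mem' := by
          rintro _ ⟨u, hu, w, hw, rfl⟩
          obtain ⟨w'', hw'', u'', hu'', e⟩ := hMperm g u hu w hw
          exact ⟨u''⁻¹, M.inv_mem hu'', w''⁻¹, W.inv_mem hw'', by rw [e, mul_inv_rev]⟩ }
    have hMT : M ≤ T := fun u hu => ⟨u, hu, 1, W.one_mem, (mul_one u).symm⟩
    have hWT : W ≤ T := fun w hw => ⟨1, M.one_mem, w, hw, (one_mul w).symm⟩
    have hTp : IsPGroup p T := isPGroup_of_product hMT hWT hMp hWp fun y hy => hy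
    have hxM : MulAut.conj x • M ≤ T := by
      rw [← map_conj_eq_smul]
      rintro _ ⟨u, hu, rfl⟩
      exact T.mul_mem (T.mul_mem (hWT hx) (hMT hu)) (T.inv_mem (hWT hx))
    have hJ := hmax (M ⊔ MulAut.conj x • M) (Finset.mem_filter.2 ⟨Finset.mem_univ _,
      hUM.trans le_sup_left, hTp.to_le (sup_le hMT hxM), hMperm.sup (hMperm.conj x)⟩)
    have e := eq_of_le_of_card_ge (le_sup_left : M ≤ M ⊔ MulAut.conj x • M) hJ
    exact mem_normalizer_of_le (le_sup_right.trans e.ge)
  set N := normalClosure (V : Set G) with hN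
  have hNM : N ≤ normalizer (M : Set G) := by
    refine (closure_le _).2 fun y hy => ?_
    obtain ⟨z, hz, hc⟩ := Group.mem_conjugatesOfSet_iff.1 hy
    obtain ⟨g, hg⟩ := isConj_iff.1 hc
    refine hnorm g ?_
    rw [mem_smul_conj, ← hg]
    simpa [mul_assoc] using hz
  have hNn : N.Normal := normalClosure_normal
  have hbot : M ⊓ N = ⊥ := by
    set Q := (M ⊓ N).subgroupOf N with hQ
    have hQn : Q.Normal := normal_subgroupOf_of_le_normalizer (by
      intro n hn
      refine mem_normalizer_of_le fun y hy => ?_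
      rw [mem_smul_conj] at hy
      refine ⟨?_, ?_⟩
      · have := (mem_normalizer_iff.1 (hNM hn) _).1 hy.1
        simpa [mul_assoc] using this
      · have := N.mul_mem (N.mul_mem hn hy.2) (N.inv_mem hn)
        simpa [mul_assoc] using this)
    have hQp : IsPGroup p Q := (hMp.to_le inf_le_left).comap_subtype
    haveI := hNn
    haveI : (Cfsg.pCore p N).Characteristic := by
      refine characteristic_iff_map_eq.2 fun φ => ?_
      refine le_antisymm ?_ ?_
      · exact le_pCore (Normal.map (pCore_isNormal (p := p) (G := N)) _ φ.surjective)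
          (pCore_isPGroup.map _)
      · intro y hy
        refine ⟨φ.symm y, le_pCore (Normal.map (pCore_isNormal (p := p) (G := N)) φ.symm.toMonoidHom
          φ.symm.surjective) (pCore_isPGroup.map _) ⟨y, hy, rfl⟩, φ.apply_symm_apply y⟩
    have h1 : (Cfsg.pCore p N).map N.subtype ≤ Cfsg.pCore p G :=
      le_pCore (normal_of_characteristic_map _) (pCore_isPGroup.map _)
    rw [hcore, le_bot_iff, map_eq_bot_iff_of_injective _ N.subtype_injective] at h1
    refine eq_bot_iff.2 fun y hy => ?_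
    have := (le_pCore hQn hQp).trans h1.le (show (⟨y, hy.2⟩ : N) ∈ Q from hy)
    exact mem_bot.2 (congrArg Subtype.val (mem_bot.1 this))
  intro u hu n hn
  have h1 : n * u * n⁻¹ * u⁻¹ ∈ M ⊓ N := by
    refine ⟨M.mul_mem ((mem_normalizer_iff.1 (hNM hn) u).1 (hUM hu)) (M.inv_mem (hUM hu)), ?_⟩
    rw [show n * u * n⁻¹ * u⁻¹ = n * (u * n⁻¹ * u⁻¹) by group]
    exact N.mul_mem hn (hNn.conj_mem _ (N.inv_mem hn) u)
  rw [hbot, mem_bot, mul_inv_eq_one, mul_inv_eq_iff_eq_mul] at h1
  exact h1

/-- Kegel–Wielandt. -/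
theorem kegel_aux : ∀ (n : ℕ) (G : Type u) [Group G] [Finite G], Nat.card G = n →
    ∀ A B : Subgroup G, Group.IsNilpotent A → Group.IsNilpotent B →
      (∀ g : G, ∃ a ∈ A, ∃ b ∈ B, g = a * b) → Group.IsSolvable G := by
  intro n
  induction n using Nat.strong_induction_on with
  | _ n ih =>
  intro G _ _ hn A B hA hB hfac
  by_contra hns
  have quot : ∀ N : Subgroup G, ∀ [N.Normal], N ≠ ⊥ → Group.IsSolvable (G ⧸ N) := by
    intro N _ hN
    refine ih _ (hn ▸ card_quotient_lt hN) _ rfl (A.map (QuotientGroup.mk' N))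
      (B.map (QuotientGroup.mk' N)) (isNilpotent_map hA _) (isNilpotent_map hB _) fun q => ?_
    obtain ⟨g, rfl⟩ := QuotientGroup.mk'_surjective N q
    obtain ⟨a, ha, b, hb, rfl⟩ := hfac g
    exact ⟨_, mem_map_of_mem _ ha, _, mem_map_of_mem _ hb, map_mul _ _ _⟩
  have nosol : ∀ N : Subgroup G, N.Normal → Group.IsSolvable N → N = ⊥ := by
    intro N hN hs
    by_contra h
    haveI := hN
    haveI := quot N h
    haveI := hs
    exact hns (Group.isSolvable_of_ker_le_range N.subtype (QuotientGroup.mk' N) (by simp))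
  refine hns (isSolvable hA hB (Nat.coprime_of_dvd fun p hp hpA hpB => ?_) hfac)
  haveI := Fact.mk hp
  have hcore : Cfsg.pCore p G = ⊥ := by
    refine nosol _ pCore_isNormal ?_
    haveI := (pCore_isPGroup (p := p) (G := G)).isNilpotent
    infer_instance
  obtain ⟨P, hPp, hAP, hBP, hP⟩ := exists_part_product hA hB hfac p
  have hnA : ∀ {C : Subgroup G}, Group.IsNilpotent C → ∀ x ∈ C, ∀ f ∈ part C p,
      x * f * x⁻¹ ∈ part C p := fun {C} hC x hx f hf => by
    obtain ⟨n, hn⟩ := exists_pow_of_mem_part hf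
    refine mem_part hC (C.mul_mem (C.mul_mem hx (map_subtype_le _ hf)) (C.inv_mem hx)) (n := n) ?_
    rw [conj_pow, hn, mul_one, mul_inv_cancel]
  have hperm : Perm (part A p) (part B p) := by
    intro g u hu v hv
    obtain ⟨a, ha, b, hb, rfl⟩ := hfac g
    rw [mem_smul_conj] at hv
    have hv' : a⁻¹ * v * a ∈ part B p := by
      have := hnA hB b hb _ hv
      simpa [mul_assoc] using this
    have hu' : a⁻¹ * u * a ∈ part A p := by
      have := hnA hA a⁻¹ (A.inv_mem ha) u hu
      rwa [inv_inv] at this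
    obtain ⟨u₁, hu₁, v₁, hv₁, e⟩ := hP _ (P.inv_mem (P.mul_mem (hAP hu') (hBP hv')))
    refine ⟨a * v₁⁻¹ * a⁻¹, ?_, a * u₁⁻¹ * a⁻¹, hnA hA a ha _ ((part A p).inv_mem hu₁), ?_⟩
    · rw [mem_smul_conj]
      have := hnA hB b⁻¹ (B.inv_mem hb) _ ((part B p).inv_mem hv₁)
      simpa [mul_assoc] using this
    · have e' : a⁻¹ * u * a * (a⁻¹ * v * a) = v₁⁻¹ * u₁⁻¹ := by
        rw [← mul_inv_rev, ← e, inv_inv]
      have := congrArg (fun y => a * y * a⁻¹) e'
      simpa [mul_assoc] using this
  have hcomm := commute_of_perm hcore ((pCore_isPGroup (p := p) (G := A)).map _)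
    ((pCore_isPGroup (p := p) (G := B)).map _) hperm
  set W := normalClosure (part B p : Set G) with hW
  haveI hWn : W.Normal := normalClosure_normal
  have hWne : W ≠ ⊥ := by
    intro h
    obtain ⟨x, hx, ho, -⟩ := exists_central_prime hB hp hpB
    have : x ∈ W := subset_normalClosure (mem_part hB hx (n := 1) (by rw [pow_one, ← ho, pow_orderOf_eq_one]))
    rw [h, mem_bot] at this
    exact hp.ne_one (by rw [← ho, this, orderOf_one])
  set C := centralizer (W : Set G) with hC
  haveI hCn : C.Normal := Subgroup.normal_centralizer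
  have hCne : C ≠ ⊥ := by
    intro h
    obtain ⟨x, hx, ho, -⟩ := exists_central_prime hA hp hpA
    have : x ∈ C := hcomm (mem_part hA hx (n := 1) (by rw [pow_one, ← ho, pow_orderOf_eq_one]))
    rw [h, mem_bot] at this
    exact hp.ne_one (by rw [← ho, this, orderOf_one])
  have hinf : W ⊓ C = ⊥ := nosol _ inferInstance (Group.isSolvable_of_comm fun x y =>
    Subtype.ext (mem_centralizer_iff.1 y.2.2 x x.2.1))
  haveI := quot W hWne
  haveI := quot C hCne
  refine hns (Group.isSolvable_of_isSolvable_injective (f := (QuotientGroup.mk' W).prod (QuotientGroup.mk' C)) ?_)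
  rw [← MonoidHom.ker_eq_bot_iff, MonoidHom.ker_prod, QuotientGroup.ker_mk', QuotientGroup.ker_mk', hinf]

theorem kegel {A B : Subgroup G} (hA : Group.IsNilpotent A) (hB : Group.IsNilpotent B)
    (hfac : ∀ g : G, ∃ a ∈ A, ∃ b ∈ B, g = a * b) : Group.IsSolvable G :=
  kegel_aux _ G rfl A B hA hB hfac

/-- A proper normal subgroup contains one of the factors. -/
theorem exists_normal_factor : ∀ (n : ℕ) (G : Type u) [Group G] [Finite G], Nat.card G = n →
    ∀ A B : Subgroup G, Group.IsNilpotent A → Group.IsNilpotent B →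
      (∀ g : G, ∃ a ∈ A, ∃ b ∈ B, g = a * b) → (A ≠ ⊤ ∨ B ≠ ⊤) →
      ∃ N : Subgroup G, N.Normal ∧ N ≠ ⊤ ∧ (A ≤ N ∨ B ≤ N) := by
  intro n
  induction n using Nat.strong_induction_on with
  | _ n ih =>
  intro G _ _ hn A B hA hB hfac hproper
  haveI := kegel hA hB hfac
  by_cases hnil : Group.IsNilpotent G
  · have key : ∀ C : Subgroup G, C ≠ ⊤ → ∃ N : Subgroup G, N.Normal ∧ N ≠ ⊤ ∧ C ≤ N := by
      intro C hC
      haveI := hnil
      obtain ⟨M, hM, hle⟩ := (eq_top_or_exists_le_coatom C).resolve_left hC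
      exact ⟨M, Subgroup.NormalizerCondition.normal_of_coatom M
        Group.normalizerCondition_of_isNilpotent hM, hM.1, hle⟩
    rcases hproper with h | h
    · obtain ⟨N, h1, h2, h3⟩ := key A h; exact ⟨N, h1, h2, Or.inl h3⟩
    · obtain ⟨N, h1, h2, h3⟩ := key B h; exact ⟨N, h1, h2, Or.inr h3⟩
  have hne : (⊤ : Subgroup G) ≠ ⊥ := fun h => hnil (by
    haveI : Subsingleton G := subsingleton_iff_forall_eq 1 |>.2 fun x => mem_bot.1 (h ▸ mem_top x)
    infer_instance)
  by_contra hcon
  push Not at hcon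
  have hstep : ∀ N : Subgroup G, N.Normal → N ≠ ⊥ → A ⊔ N = ⊤ ∧ B ⊔ N = ⊤ := by
    intro N hN hN1
    haveI := hN
    by_contra h
    have hprop : A.map (QuotientGroup.mk' N) ≠ ⊤ ∨ B.map (QuotientGroup.mk' N) ≠ ⊤ := by
      by_contra h'
      push Not at h'
      refine h ⟨?_, ?_⟩
      · have := congrArg (Subgroup.comap (QuotientGroup.mk' N)) h'.1
        rwa [comap_map_eq, QuotientGroup.ker_mk', comap_top] at this
      · have := congrArg (Subgroup.comap (QuotientGroup.mk' N)) h'.2
        rwa [comap_map_eq, QuotientGroup.ker_mk', comap_top] at this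
    obtain ⟨M, hMn, hMne, hM⟩ := ih _ (hn ▸ card_quotient_lt hN1) _ rfl (A.map (QuotientGroup.mk' N))
      (B.map (QuotientGroup.mk' N)) (isNilpotent_map hA _) (isNilpotent_map hB _) (fun q => by
        obtain ⟨g, rfl⟩ := QuotientGroup.mk'_surjective N q
        obtain ⟨a, ha, b, hb, rfl⟩ := hfac g
        exact ⟨_, mem_map_of_mem _ ha, _, mem_map_of_mem _ hb, map_mul _ _ _⟩) hprop
    have hne' : M.comap (QuotientGroup.mk' N) ≠ ⊤ := fun e => hMne (by
      rw [← map_comap_eq_self_of_surjective (QuotientGroup.mk'_surjective N) M, e,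
        map_top_of_surjective _ (QuotientGroup.mk'_surjective N)])
    have hc := hcon _ (Normal.comap hMn _) hne'
    rcases hM with hM | hM
    · exact hc.1 (map_le_iff_le_comap.1 hM)
    · exact hc.2 (map_le_iff_le_comap.1 hM)
  obtain ⟨N, hN, hN1, -, hNmin⟩ := exists_minimal_normal_le hne
  haveI := hN
  obtain ⟨r, hr, hNr⟩ := minimal_normal_solvable_isPGroup (N := N) inferInstance hN1 hNmin
  haveI := Fact.mk hr
  obtain ⟨hAN, hBN⟩ := hstep N hN hN1
  -- the parts prime to `r` are Hall subgroups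
  have hHall : ∀ {C : Subgroup G}, Group.IsNilpotent C → C ⊔ N = ⊤ →
      (Nat.card (cpl C r)).Coprime r ∧ ∃ k, (cpl C r).index = r ^ k := by
    intro C hC hCN
    have h := hasNormalPComplement_of_nilpotent (p := r) hC
    have heq : cpl C r = (Cfsg.pResidual r C).map C.subtype := by
      refine le_antisymm ((closure_le _).2 ?_) ?_
      · rintro y ⟨hy, hd⟩
        refine ⟨⟨y, hy⟩, (Transfer.mem_pResidual_iff h).2 ?_, rfl⟩
        rw [← orderOf_coe]
        exact ((hr.coprime_iff_not_dvd).2 hd).symm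
      · rintro _ ⟨y, hy, rfl⟩
        refine mem_cpl y.2 ?_
        have h1 := ((Transfer.mem_pResidual_iff h).1 hy).symm
        rw [coe_subtype, orderOf_coe]
        exact hr.coprime_iff_not_dvd.1 h1
    refine ⟨?_, ?_⟩
    · rw [heq, card_map_of_injective C.subtype_injective]
      exact ((hr.coprime_iff_not_dvd).2 (Transfer.hasNormalPComplement_iff_not_dvd.1 h)).symm
    · obtain ⟨i, hi⟩ := Transfer.exists_pResidual_index (G := C) r
      obtain ⟨j, hj⟩ := hNr.index (C.subgroupOf N)
      refine ⟨i + j, ?_⟩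
      have hrel : C.index = C.relIndex N := by
        rw [← relIndex_top_right]
        refine relIndex_eq_of_product le_top le_top fun x _ => ?_
        obtain ⟨m, hm, c, hc, e⟩ := mem_sup_of_normal_left.1 (show x ∈ N ⊔ C by
          rw [sup_comm, hCN]; exact mem_top x)
        exact ⟨m, hm, c, hc, e.symm⟩
      rw [heq, index_map_subtype, hi, hrel, relIndex, hj, pow_add]
  obtain ⟨hAc, i, hAi⟩ := hHall hA hAN
  obtain ⟨hBc, j, hBj⟩ := hHall hB hBN
  have hcardeq : Nat.card (cpl A r) = Nat.card (cpl B r) := by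
    have h1 := (cpl A r).card_mul_index
    have h2 := (cpl B r).card_mul_index
    rw [hAi] at h1
    rw [hBj, ← h1] at h2
    refine Nat.dvd_antisymm ?_ ?_
    · exact (hAc.pow_right j).dvd_of_dvd_mul_right (h2 ▸ dvd_mul_right _ _)
    · exact (hBc.pow_right i).dvd_of_dvd_mul_right (h2.symm ▸ dvd_mul_right _ _)
  obtain ⟨g, hg⟩ := exists_conj_le_hall (G := G) (cpl B r).card_mul_index.symm
    (by rw [hBj]; exact hBc.pow_right j) (H := cpl B r) (K := cpl A r) rfl
    (by rw [hBj]; exact hAc.pow_right j)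
  obtain ⟨a, ha, b, hb, rfl⟩ := hfac g
  have hge : MulAut.conj (a * b) • cpl B r = cpl A r :=
    (eq_of_le_of_card_ge hg (by rw [card_conj_smul, hcardeq])).symm
  rw [map_mul, mul_smul, mem_normalizer_iff_smul.1 (le_normalizer_cpl B r hb)] at hge
  have hKeq : cpl B r = cpl A r := by
    have h1 := mem_normalizer_iff_smul.1 (le_normalizer_cpl A r (A.inv_mem ha))
    conv_rhs => rw [← h1, ← hge, smul_smul, ← map_mul, inv_mul_cancel, map_one, one_smul]
  have hKn : (cpl A r).Normal := normalizer_eq_top_iff.1 (top_le_iff.1 fun g _ => by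
    obtain ⟨a, ha, b, hb, rfl⟩ := hfac g
    exact mul_mem (le_normalizer_cpl A r ha) (hKeq ▸ le_normalizer_cpl B r hb))
  by_cases hK : cpl A r = ⊥
  · -- then `G` is an `r`-group
    refine hnil ?_
    rw [hK, index_bot] at hAi
    exact (IsPGroup.of_card (n := i) hAi).isNilpotent
  · obtain ⟨hA', hB'⟩ := hstep _ hKn hK
    have hAtop : A = ⊤ := by rwa [sup_eq_left.2 (cpl_le A r)] at hA'
    exact hnil (Group.nilpotent_of_mulEquiv
      ((MulEquiv.subgroupCongr hAtop).trans Subgroup.topEquiv))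

end Cfsg.Agent.Grp.Wielandt
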