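import Cfsg.Agent.Lib.Grp.Wielandt.Count

/-!
Wielandt's theorem: a product of two nilpotent subgroups of coprime orders is solvable.
-/

set_option autoImplicit false
set_option linter.style.haveILetI false
set_option linter.unusedSectionVars false

namespace Cfsg.Agent.Grp.Wielandt

open scoped Pointwise
open Subgroup

universe u

variable {G : Type u} [Group G] [Finite G] {A B : Subgroup G}

theorem fac_of_normal (hcop : (Nat.card A).Coprime (Nat.card B))
    (hfac : ∀ g : G, ∃ a ∈ A, ∃ b ∈ B, g = a * b) (N : Subgroup G) [N.Normal] : Fac A B N := by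
  set x := Nat.card (A ⊓ N : Subgroup G) with hx
  set y := Nat.card (B ⊓ N : Subgroup G) with hy
  have hG : Nat.card G = Nat.card A * Nat.card B := by
    rw [← A.card_mul_index, coprime_index hcop hfac]
  have hxy : x.Coprime y := Nat.Coprime.coprime_dvd_right (card_dvd_of_le inf_le_left)
    (hcop.coprime_dvd_left (card_dvd_of_le inf_le_left))
  obtain ⟨w, hw⟩ := hxy.mul_dvd_of_dvd_of_dvd
    (card_dvd_of_le (inf_le_right : A ⊓ N ≤ N)) (card_dvd_of_le (inf_le_right : B ⊓ N ≤ N))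
  have key : ∀ (C D : Subgroup G) (z : ℕ), Nat.card G = Nat.card C * Nat.card D →
      Nat.card N = Nat.card (C ⊓ N : Subgroup G) * z → z ∣ Nat.card D := by
    intro C D z hCD hz
    have h1 := card_sup_mul_card_inf_normal (H := C) (N := N)
    obtain ⟨k, hk⟩ := card_subgroup_dvd_card (C ⊔ N)
    rw [hz, ← mul_assoc, mul_comm (Nat.card C), mul_assoc] at h1
    have h2 : Nat.card (C ⊔ N : Subgroup G) = Nat.card C * z := by
      refine Nat.eq_of_mul_eq_mul_left (Nat.card_pos (α := (C ⊓ N : Subgroup G))) ?_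
      rw [← h1, mul_comm]
    rw [h2, mul_assoc, hCD] at hk
    exact ⟨k, Nat.eq_of_mul_eq_mul_left Nat.card_pos hk⟩
  have h1 : w ∣ Nat.card B :=
    (dvd_mul_left w y).trans (key A B (y * w) hG (by rw [hw, mul_assoc]))
  have h2 : w ∣ Nat.card A :=
    (dvd_mul_left w x).trans (key B A (x * w) (by rw [hG, mul_comm]) (by
      rw [hw, ← hy, mul_assoc, mul_left_comm]))
  have hw1 : w = 1 := Nat.eq_one_of_dvd_coprimes hcop h2 h1
  rw [hw1, mul_one] at hw
  intro g hg
  let φ : (A ⊓ N : Subgroup G) × (B ⊓ N : Subgroup G) → N :=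
    fun z => ⟨(z.1 : G) * z.2, N.mul_mem z.1.2.2 z.2.2.2⟩
  have hinj : Function.Injective φ := by
    intro z z' h
    have h' : (z.1 : G) * z.2 = z'.1 * z'.2 := congrArg Subtype.val h
    obtain ⟨e1, e2⟩ := eq_of_mul_eq hcop.symm z.2.2.1 z'.2.2.1 z.1.2.1 z'.1.2.1 h'
    exact Prod.ext (Subtype.ext e2) (Subtype.ext e1)
  haveI := Fintype.ofFinite N
  have hbij : Function.Bijective φ := by
    haveI := Fintype.ofFinite ((A ⊓ N : Subgroup G) × (B ⊓ N : Subgroup G))
    rw [Fintype.bijective_iff_injective_and_card]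
    refine ⟨hinj, ?_⟩
    rw [← Nat.card_eq_fintype_card, ← Nat.card_eq_fintype_card, Nat.card_prod, hw]
  obtain ⟨z, hz⟩ := hbij.2 ⟨g, hg⟩
  exact ⟨z.1, z.1.2, z.2, z.2.2, (congrArg Subtype.val hz).symm⟩

/-- Wielandt: a product of nilpotent subgroups of coprime orders is solvable. -/
theorem isSolvable_aux : ∀ (n : ℕ) (G : Type u) [Group G] [Finite G], Nat.card G = n →
    ∀ A B : Subgroup G, Group.IsNilpotent A → Group.IsNilpotent B →
      (Nat.card A).Coprime (Nat.card B) → (∀ g : G, ∃ a ∈ A, ∃ b ∈ B, g = a * b) →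
      Group.IsSolvable G := by
  intro n
  induction n using Nat.strong_induction_on with
  | _ n ih =>
  intro G _ _ hn A B hA hB hcop hfac
  by_contra hns
  have small : ∀ H : Subgroup G, H ≠ ⊤ → Fac A B H → Group.IsSolvable H := by
    intro H hH hf
    refine ih _ (hn ▸ card_lt_of_ne_top hH) H rfl ((A ⊓ H).subgroupOf H) ((B ⊓ H).subgroupOf H)
      ?_ ?_ ?_ ?_
    · haveI := isNilpotent_of_le (inf_le_left : A ⊓ H ≤ A) hA
      exact Group.nilpotent_of_mulEquiv (subgroupOfEquivOfLe (inf_le_right : A ⊓ H ≤ H)).symm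
    · haveI := isNilpotent_of_le (inf_le_left : B ⊓ H ≤ B) hB
      exact Group.nilpotent_of_mulEquiv (subgroupOfEquivOfLe (inf_le_right : B ⊓ H ≤ H)).symm
    · rw [Nat.card_congr (subgroupOfEquivOfLe (inf_le_right : A ⊓ H ≤ H)).toEquiv,
        Nat.card_congr (subgroupOfEquivOfLe (inf_le_right : B ⊓ H ≤ H)).toEquiv]
      exact Nat.Coprime.coprime_dvd_right (card_dvd_of_le inf_le_left)
        (hcop.coprime_dvd_left (card_dvd_of_le inf_le_left))
    · rintro ⟨g, hg⟩
      obtain ⟨a, ha, b, hb, e⟩ := hf g hg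
      exact ⟨⟨a, ha.2⟩, ha, ⟨b, hb.2⟩, hb, Subtype.ext e⟩
  refine Setup.false_of_setup (A := A) (B := B) ⟨hA, hB, hcop, hfac, fun N hN => ?_, hns, small⟩
  by_contra hcon
  push Not at hcon
  haveI := hN
  haveI : Group.IsSolvable N := small N hcon.2 (fac_of_normal hcop hfac N)
  haveI : Group.IsSolvable (G ⧸ N) := by
    refine ih _ (hn ▸ card_quotient_lt hcon.1) _ rfl (A.map (QuotientGroup.mk' N))
      (B.map (QuotientGroup.mk' N)) (isNilpotent_map hA _) (isNilpotent_map hB _)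
      (Nat.Coprime.coprime_dvd_right (card_map_dvd _ _)
        (hcop.coprime_dvd_left (card_map_dvd _ _))) fun q => ?_
    obtain ⟨g, rfl⟩ := QuotientGroup.mk'_surjective N q
    obtain ⟨a, ha, b, hb, rfl⟩ := hfac g
    exact ⟨_, mem_map_of_mem _ ha, _, mem_map_of_mem _ hb, map_mul _ _ _⟩
  exact hns (Group.isSolvable_of_ker_le_range N.subtype (QuotientGroup.mk' N) (by simp))

theorem isSolvable (hA : Group.IsNilpotent A) (hB : Group.IsNilpotent B)
    (hcop : (Nat.card A).Coprime (Nat.card B)) (hfac : ∀ g : G, ∃ a ∈ A, ∃ b ∈ B, g = a * b) :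
    Group.IsSolvable G :=
  isSolvable_aux _ G rfl A B hA hB hcop hfac

theorem sylow_map_eq_part (hA : Group.IsNilpotent A) {p : ℕ} [Fact p.Prime] (P : Sylow p A) :
    (P : Subgroup A).map A.subtype = part A p :=
  congrArg (Subgroup.map A.subtype) (le_antisymm
    (le_pCore (isNilpotent_iff_sylow_normal.1 hA p inferInstance P) P.isPGroup') (pCore_le_sylow P))

/-- The Sylow subgroups of the factors permute. -/
theorem exists_sylow_product (hA : Group.IsNilpotent A) (hB : Group.IsNilpotent B)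
    (hcop : (Nat.card A).Coprime (Nat.card B)) (hfac : ∀ g : G, ∃ a ∈ A, ∃ b ∈ B, g = a * b)
    (p q : ℕ) [Fact p.Prime] [Fact q.Prime] :
    ∃ S : Subgroup G, (S : Set G) = (part A p : Set G) * (part B q : Set G) := by
  haveI := isSolvable hA hB hcop hfac
  have hswap : ∀ a ∈ part A p, ∀ b ∈ part B q, ∃ b' ∈ part B q, ∃ a' ∈ part A p, a * b = b' * a' :=
    fun a ha b hb => sylow_permute hA hB hcop (fac_of_le hfac (H := ⊤) le_top)
      (isSolvable_of_injective (⊤ : Subgroup G).subtype (⊤ : Subgroup G).subtype_injective inferInstance)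
      ⟨ha, mem_top a⟩ ⟨hb, mem_top b⟩
  have hswap' : ∀ b ∈ part B q, ∀ a ∈ part A p, ∃ a' ∈ part A p, ∃ b' ∈ part B q, b * a = a' * b' := by
    intro b hb a ha
    obtain ⟨b', hb', a', ha', e⟩ := hswap a⁻¹ ((part A p).inv_mem ha) b⁻¹ ((part B q).inv_mem hb)
    exact ⟨a'⁻¹, (part A p).inv_mem ha', b'⁻¹, (part B q).inv_mem hb',
      by rw [← mul_inv_rev, ← e, mul_inv_rev, inv_inv, inv_inv]⟩
  refine ⟨{ carrier := (part A p : Set G) * (part B q : Set G)
            one_mem' := ⟨1, one_mem _, 1, one_mem _, mul_one 1⟩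
            mul_mem' := ?_
            inv_mem' := ?_ }, rfl⟩
  · rintro _ _ ⟨a, ha, b, hb, rfl⟩ ⟨a', ha', b', hb', rfl⟩
    obtain ⟨a'', ha'', b'', hb'', e⟩ := hswap' b hb a' ha'
    exact ⟨a * a'', mul_mem ha ha'', b'' * b', mul_mem hb'' hb', by
      show a * a'' * (b'' * b') = a * b * (a' * b')
      rw [mul_assoc a b, ← mul_assoc b, e]; group⟩
  · rintro _ ⟨a, ha, b, hb, rfl⟩
    obtain ⟨a', ha', b', hb', e⟩ := hswap' b⁻¹ ((part B q).inv_mem hb) a⁻¹ ((part A p).inv_mem ha)
    exact ⟨a', ha', b', hb', by show a' * b' = (a * b)⁻¹; rw [mul_inv_rev, e]⟩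

end Cfsg.Agent.Grp.Wielandt
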