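import Cfsg.Agent.Lib.Grp.Basic
import Cfsg.Agent.Lib.Grp.Cores
import Cfsg.Agent.Lib.Grp.Solvable
import Cfsg.Agent.Lib.Grp.Coprime
import Cfsg.Agent.Lib.Transfer.TypeP
import Cfsg.Agent.S0581
import Mathlib

/-!
Products of two nilpotent subgroups of coprime orders (Wielandt): factorised subgroups,
the minimal counterexample, and first consequences.
-/

set_option autoImplicit false
set_option linter.style.haveILetI false
set_option linter.unusedSectionVars false

namespace Cfsg.Agent.Grp.Wielandt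

open scoped Pointwise
open Subgroup

universe u

variable {G : Type u} [Group G]

/-- `H` is factorised with respect to `G = AB`. -/
def Fac (A B H : Subgroup G) : Prop :=
  ∀ g ∈ H, ∃ a ∈ A ⊓ H, ∃ b ∈ B ⊓ H, g = a * b

theorem Fac.symm {A B H : Subgroup G} (h : Fac A B H) : Fac B A H := fun g hg => by
  obtain ⟨a, ha, b, hb, e⟩ := h g⁻¹ (H.inv_mem hg)
  exact ⟨b⁻¹, (B ⊓ H).inv_mem hb, a⁻¹, (A ⊓ H).inv_mem ha, by rw [← inv_inv g, e, mul_inv_rev]⟩

/-- The part of a nilpotent `A` prime to `q`. -/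
def cpl (A : Subgroup G) (q : ℕ) : Subgroup G :=
  closure {x : G | x ∈ A ∧ ¬ q ∣ orderOf x}

theorem cpl_le (A : Subgroup G) (q : ℕ) : cpl A q ≤ A :=
  (closure_le _).2 fun _ hx => hx.1

theorem mem_cpl {A : Subgroup G} {q : ℕ} {x : G} (hx : x ∈ A) (h : ¬ q ∣ orderOf x) : x ∈ cpl A q :=
  subset_closure ⟨hx, h⟩

theorem orderOf_conj' (g x : G) : orderOf (g * x * g⁻¹) = orderOf x := by
  simpa using orderOf_injective (MulAut.conj g).toMonoidHom (MulAut.conj g).injective x

/-- An element conjugating the generators into `A` conjugates the part prime to `q` into itself. -/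
theorem conj_cpl_le {A : Subgroup G} {q : ℕ} {g : G}
    (h : ∀ x ∈ A, ¬ q ∣ orderOf x → g * x * g⁻¹ ∈ A) : MulAut.conj g • cpl A q ≤ cpl A q := by
  rw [← map_conj_eq_smul, map_le_iff_le_comap, cpl, closure_le]
  rintro x ⟨hx, hq⟩
  exact subset_closure ⟨h x hx hq, by
    simpa [orderOf_conj'] using hq⟩

variable [Finite G]

theorem mem_normalizer_of_le {X : Subgroup G} {g : G} (h : MulAut.conj g • X ≤ X) :
    g ∈ normalizer (X : Set G) :=
  mem_normalizer_iff_smul.2 (eq_of_le_of_card_ge h (card_conj_smul g X).ge)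

theorem le_normalizer_cpl (A : Subgroup G) (q : ℕ) : A ≤ normalizer (cpl A q : Set G) :=
  fun a ha => mem_normalizer_of_le (conj_cpl_le fun _ hx _ =>
    A.mul_mem (A.mul_mem ha hx) (A.inv_mem ha))

theorem exists_prime_order {X : Subgroup G} (hX : X ≠ ⊥) :
    ∃ (p : ℕ) (x : G), p.Prime ∧ x ∈ X ∧ orderOf x = p ∧ p ∣ Nat.card X := by
  obtain ⟨p, hp, hd⟩ := Nat.exists_prime_and_dvd (fun h => hX (Subgroup.card_eq_one.1 h))
  haveI := Fact.mk hp
  obtain ⟨x, hx⟩ := exists_prime_orderOf_dvd_card' p hd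
  exact ⟨p, x, hp, x.2, by rwa [orderOf_coe], hd⟩

/-- A nontrivial element of a nilpotent subgroup gives a central one of each prime order. -/
theorem exists_central_prime {A : Subgroup G} (hA : Group.IsNilpotent A) {p : ℕ} (hp : p.Prime)
    (hd : p ∣ Nat.card A) :
    ∃ x ∈ A, orderOf x = p ∧ ∀ a ∈ A, a * x = x * a := by
  haveI := Fact.mk hp
  obtain ⟨P⟩ : Nonempty (Sylow p A) := Sylow.nonempty
  haveI : (P : Subgroup A).Normal := isNilpotent_iff_sylow_normal.1 hA p inferInstance P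
  haveI : Nontrivial (P : Subgroup A) :=
    (Subgroup.nontrivial_iff_ne_bot _).2 (P.ne_bot_of_dvd_card hd)
  haveI := P.isPGroup'.center_nontrivial
  have hd' : p ∣ Nat.card (center (P : Subgroup A)) := by
    obtain ⟨n, hn⟩ := (P.isPGroup'.to_subgroup (center (P : Subgroup A))).exists_card_eq
    rcases Nat.eq_zero_or_pos n with h0 | h0
    · rw [h0, pow_zero] at hn
      exact absurd hn Finite.one_lt_card.ne'
    · exact hn ▸ dvd_pow_self p h0.ne'
  obtain ⟨x, hx⟩ := exists_prime_orderOf_dvd_card' p hd'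
  refine ⟨((x : (P : Subgroup A)) : A), ((x : (P : Subgroup A)) : A).2,
    by rw [orderOf_coe, orderOf_coe, orderOf_coe]; exact hx, fun a ha => ?_⟩
  by_cases hpa : p ∣ orderOf a
  case neg =>
    refine Transfer.TypeP.commute_of_coprime_orderOf hA ha ((x : (P : Subgroup A)) : A).2 ?_
    rw [orderOf_coe, orderOf_coe, orderOf_coe, hx]
    exact ((hp.coprime_iff_not_dvd).2 hpa).symm
  case pos =>
    obtain ⟨n, m, hm, hnm⟩ := Nat.exists_eq_pow_mul_and_not_dvd (orderOf_pos a).ne' p hp.ne_one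
    have hc : (p ^ n).Coprime m := (hp.coprime_iff_not_dvd.2 hm).pow_left n
    obtain ⟨c, d, hc', hd'', hcp, hdm, he⟩ := exists_pow_decomp hc
      (show a ^ (p ^ n * m) = 1 by rw [← hnm, pow_orderOf_eq_one])
    have hcA : c ∈ A := zpowers_le.2 ha hc'
    have hdA : d ∈ A := zpowers_le.2 ha hd''
    have hcP : (⟨c, hcA⟩ : A) ∈ (P : Subgroup A) := by
      have hco : orderOf (⟨c, hcA⟩ : A) ∣ p ^ n := orderOf_dvd_of_pow_eq_one (Subtype.ext hcp)
      obtain ⟨i, -, hi⟩ := (Nat.dvd_prime_pow hp).1 hco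
      have hgrp : IsPGroup p (zpowers (⟨c, hcA⟩ : A)) :=
        IsPGroup.of_card (n := i) (by rw [Nat.card_zpowers, hi])
      obtain ⟨P', hP'⟩ := hgrp.exists_le_sylow
      letI := Sylow.unique_of_normal P ‹_›
      exact (Subsingleton.elim P' P) ▸ hP' (mem_zpowers _)
    have h1 : c * ((x : (P : Subgroup A)) : A) = ((x : (P : Subgroup A)) : A) * c :=
      congrArg (fun y : (P : Subgroup A) => ((y : A) : G))
        (mem_center_iff.1 x.2 ⟨⟨c, hcA⟩, hcP⟩)
    have h2 : d * ((x : (P : Subgroup A)) : A) = ((x : (P : Subgroup A)) : A) * d := by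
      refine Transfer.TypeP.commute_of_coprime_orderOf hA hdA ((x : (P : Subgroup A)) : A).2 ?_
      rw [orderOf_coe, orderOf_coe, orderOf_coe, hx]
      exact ((hp.coprime_iff_not_dvd.2 hm).coprime_dvd_right (orderOf_dvd_of_pow_eq_one hdm)).symm
    rw [he, mul_assoc, h2, ← mul_assoc, h1, mul_assoc]

/-- Standing data: a minimal counterexample. -/
structure Setup (A B : Subgroup G) : Prop where
  nilA : Group.IsNilpotent A
  nilB : Group.IsNilpotent B
  cop : (Nat.card A).Coprime (Nat.card B)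
  fac : ∀ g : G, ∃ a ∈ A, ∃ b ∈ B, g = a * b
  simple : ∀ N : Subgroup G, N.Normal → N = ⊥ ∨ N = ⊤
  nsol : ¬ Group.IsSolvable G
  small : ∀ H : Subgroup G, H ≠ ⊤ → Fac A B H → Group.IsSolvable H

section Factor

variable {A B : Subgroup G}

omit [Finite G] in
theorem fac_swap (hfac : ∀ g : G, ∃ a ∈ A, ∃ b ∈ B, g = a * b) (g : G) :
    ∃ b ∈ B, ∃ a ∈ A, g = b * a := by
  obtain ⟨a, ha, b, hb, e⟩ := hfac g⁻¹
  exact ⟨b⁻¹, B.inv_mem hb, a⁻¹, A.inv_mem ha, by rw [← inv_inv g, e, mul_inv_rev]⟩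

theorem card_fac (hcop : (Nat.card A).Coprime (Nat.card B)) {H : Subgroup G} (hH : Fac A B H) :
    Nat.card H = Nat.card (A ⊓ H : Subgroup G) * Nat.card (B ⊓ H : Subgroup G) := by
  rw [← Nat.card_prod]
  refine (Nat.card_congr (Equiv.ofBijective
    (fun x : (A ⊓ H : Subgroup G) × (B ⊓ H : Subgroup G) =>
      (⟨(x.1 : G) * x.2, H.mul_mem x.1.2.2 x.2.2.2⟩ : H)) ⟨?_, ?_⟩)).symm
  · intro x y h
    have h' : (x.1 : G) * x.2 = y.1 * y.2 := congrArg Subtype.val h
    have h1 : (y.1 : G)⁻¹ * x.1 ∈ A ⊓ B := by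
      refine ⟨A.mul_mem (A.inv_mem y.1.2.1) x.1.2.1, ?_⟩
      have e : (y.1 : G)⁻¹ * x.1 = y.2 * (x.2 : G)⁻¹ := by
        rw [eq_mul_inv_iff_mul_eq, mul_assoc, h', inv_mul_cancel_left]
      rw [e]
      exact B.mul_mem y.2.2.1 (B.inv_mem x.2.2.1)
    rw [inf_eq_bot_of_coprime hcop, mem_bot, inv_mul_eq_one] at h1
    exact Prod.ext (Subtype.ext h1.symm) (Subtype.ext (by rw [← h1] at h'; exact mul_left_cancel h'))
  · rintro ⟨g, hg⟩
    obtain ⟨a, ha, b, hb, e⟩ := hH g hg
    exact ⟨(⟨a, ha⟩, ⟨b, hb⟩), Subtype.ext e.symm⟩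

omit [Finite G] in
theorem fac_of_le (hfac : ∀ g : G, ∃ a ∈ A, ∃ b ∈ B, g = a * b) {H : Subgroup G} (hA : A ≤ H) :
    Fac A B H := fun g hg => by
  obtain ⟨a, ha, b, hb, e⟩ := hfac g
  refine ⟨a, ⟨ha, hA ha⟩, b, ⟨hb, ?_⟩, e⟩
  have : b = a⁻¹ * g := by rw [e, inv_mul_cancel_left]
  rw [this]
  exact H.mul_mem (H.inv_mem (hA ha)) hg

/-- The normalizer of the join of a normal subgroup of `A` and one of `B` is factorised. -/
theorem fac_normalizer (hfac : ∀ g : G, ∃ a ∈ A, ∃ b ∈ B, g = a * b) {X Y : Subgroup G}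
    (hX : A ≤ normalizer (X : Set G)) (hY : B ≤ normalizer (Y : Set G)) :
    Fac A B (normalizer ((X ⊔ Y : Subgroup G) : Set G)) := by
  intro g hg
  obtain ⟨a, ha, b, hb, e⟩ := hfac g
  set H := X ⊔ Y with hH
  have hgH : MulAut.conj a • MulAut.conj b • H = H := by
    rw [smul_smul, ← map_mul, ← e]; exact mem_normalizer_iff_smul.1 hg
  have h1 : X ≤ MulAut.conj b • H := by
    have : MulAut.conj a • X ≤ MulAut.conj a • MulAut.conj b • H := by
      rw [mem_normalizer_iff_smul.1 (hX ha), hgH]; exact le_sup_left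
    exact pointwise_smul_le_pointwise_smul_iff.1 this
  have h2 : Y ≤ MulAut.conj b • H := by
    conv_lhs => rw [← mem_normalizer_iff_smul.1 (hY hb)]
    exact pointwise_smul_le_pointwise_smul_iff.2 le_sup_right
  have hbN : b ∈ normalizer (H : Set G) :=
    mem_normalizer_iff_smul.2 (eq_of_le_of_card_ge (sup_le h1 h2) (card_conj_smul b H).le).symm
  refine ⟨a, ⟨ha, ?_⟩, b, ⟨hb, hbN⟩, e⟩
  have : a = g * b⁻¹ := by rw [e, mul_inv_cancel_right]
  rw [this]
  exact (normalizer _).mul_mem hg ((normalizer _).inv_mem hbN)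

variable (hnil : Group.IsNilpotent A) (hcop : (Nat.card A).Coprime (Nat.card B))
include hcop

theorem coprime_index (hfac : ∀ g : G, ∃ a ∈ A, ∃ b ∈ B, g = a * b) :
    A.index = Nat.card B := by
  have h := card_fac hcop (fac_of_le hfac (H := ⊤) le_top)
  rw [inf_top_eq, inf_top_eq, card_top] at h
  have := A.card_mul_index
  rw [h] at this
  exact Nat.eq_of_mul_eq_mul_left Nat.card_pos this

/-- A normal `π`-subgroup of a factorised subgroup lies in `A`. -/
theorem le_left_of_normal {K : Subgroup G} (hK : Fac A B K) {N : Subgroup G} (hN : N ≤ K)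
    (hnorm : K ≤ normalizer (N : Set G)) (hNB : (Nat.card N).Coprime (Nat.card B)) : N ≤ A := by
  have hAK : A ⊓ K ≤ normalizer (N : Set G) := inf_le_right.trans hnorm
  have hc : (Nat.card (A ⊓ K ⊔ N : Subgroup G)).Coprime (Nat.card B) :=
    card_sup_coprime_to hAK (hcop.coprime_dvd_left (card_dvd_of_le inf_le_left)) hNB
  have hd : Nat.card (A ⊓ K ⊔ N : Subgroup G) ∣
      Nat.card (A ⊓ K : Subgroup G) * Nat.card (B ⊓ K : Subgroup G) := by
    rw [← card_fac hcop hK]; exact card_dvd_of_le (sup_le inf_le_right hN)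
  have := (hc.coprime_dvd_right (card_dvd_of_le inf_le_left)).dvd_of_dvd_mul_right hd
  have e := eq_of_le_of_card_ge (le_sup_left : A ⊓ K ≤ A ⊓ K ⊔ N) (Nat.le_of_dvd Nat.card_pos this)
  exact le_sup_right.trans (e.ge.trans inf_le_left)

include hnil in
/-- Inside a factorised subgroup every `π`-subgroup is conjugate into `A`. -/
theorem exists_conj_le {K : Subgroup G} (hK : Fac A B K) {D : Subgroup G} (hD : D ≤ K)
    (hDB : (Nat.card D).Coprime (Nat.card B)) : ∃ k ∈ K, D ≤ MulAut.conj k • (A ⊓ K) := by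
  have hc : Nat.card ((A ⊓ K).subgroupOf K) = Nat.card (A ⊓ K : Subgroup G) :=
    Nat.card_congr (subgroupOfEquivOfLe inf_le_right).toEquiv
  have hi : ((A ⊓ K).subgroupOf K).index = Nat.card (B ⊓ K : Subgroup G) := by
    have h := ((A ⊓ K).subgroupOf K).card_mul_index
    rw [hc, card_fac hcop hK] at h
    exact Nat.eq_of_mul_eq_mul_left Nat.card_pos h
  haveI : Group.IsNilpotent (A ⊓ K : Subgroup G) := isNilpotent_of_le inf_le_left hnil
  have hn : Group.IsNilpotent ((A ⊓ K).subgroupOf K) :=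
    Group.nilpotent_of_mulEquiv (subgroupOfEquivOfLe (inf_le_right : A ⊓ K ≤ K)).symm
  obtain ⟨k, hk⟩ := S0581.result ((A ⊓ K).subgroupOf K) (D.subgroupOf K) hn
    (by
      rw [hc, hi]
      exact Nat.Coprime.coprime_dvd_right (card_dvd_of_le inf_le_left)
        (hcop.coprime_dvd_left (card_dvd_of_le inf_le_left)))
    (by
      intro p hp hpd
      rw [Nat.card_congr (subgroupOfEquivOfLe hD).toEquiv] at hpd
      rw [hc]
      have : p ∣ Nat.card (A ⊓ K : Subgroup G) * Nat.card (B ⊓ K : Subgroup G) := by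
        rw [← card_fac hcop hK]; exact hpd.trans (card_dvd_of_le hD)
      rcases hp.dvd_mul.1 this with h | h
      · exact h
      · exact absurd (hDB ▸ Nat.dvd_gcd hpd (h.trans (card_dvd_of_le inf_le_left)))
          hp.not_dvd_one)
  refine ⟨k, k.2, fun d hd => ?_⟩
  have := hk (show (⟨d, hD hd⟩ : K) ∈ D.subgroupOf K from hd)
  rw [mem_smul_conj] at this ⊢
  exact this

end Factor

end Cfsg.Agent.Grp.Wielandt
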