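import Cfsg.Agent.Lib.Grp.Wielandt.Structure

/-!
The counting contradiction in a minimal counterexample.
-/

set_option autoImplicit false
set_option linter.style.haveILetI false
set_option linter.unusedSectionVars false

namespace Cfsg.Agent.Grp.Wielandt

open scoped Pointwise
open Subgroup

universe u

variable {G : Type u} [Group G] [Finite G]

theorem eq_one_of_pow {x : G} {m n : ℕ} (h : m.Coprime n) (hm : x ^ m = 1) (hn : x ^ n = 1) : x = 1 := by
  have := pow_gcd_eq_one.2 ⟨hm, hn⟩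
  rwa [h.gcd_eq_one, pow_one] at this

theorem card_ne_one_subtype (H : Subgroup G) : Nat.card {x : H // x ≠ 1} + 1 = Nat.card H := by
  classical
  haveI := Fintype.ofFinite H
  rw [Nat.card_eq_fintype_card, Nat.card_eq_fintype_card, Fintype.card_subtype_compl,
    Fintype.card_subtype_eq]
  have : 0 < Fintype.card H := Fintype.card_pos
  omega

theorem out_eq_of_mem {H : Subgroup G} {t t' : G ⧸ H} (h : t'.out⁻¹ * t.out ∈ H) : t' = t := by
  rw [← QuotientGroup.out_eq' t', ← QuotientGroup.out_eq' t]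
  exact QuotientGroup.eq.2 h

namespace Setup

variable {A B : Subgroup G} (S : Setup A B)
include S

theorem pow_card_left {a : G} (ha : a ∈ A) : a ^ Nat.card A = 1 :=
  congrArg Subtype.val (pow_card_eq_one' (G := A) (x := ⟨a, ha⟩))

theorem block_inj {t t' : G ⧸ S.top} {a a' : G} (ha : a ∈ A) (ha' : a' ∈ A) (ha'1 : a' ≠ 1)
    (h : t.out * a * t.out⁻¹ = t'.out * a' * t'.out⁻¹) : t = t' ∧ a = a' := by
  have ha1 : (t.out⁻¹ * t'.out) * a' * (t.out⁻¹ * t'.out)⁻¹ = a := by
    have := congrArg (fun x => t.out⁻¹ * x * t.out) h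
    simpa [mul_assoc] using this.symm
  have hg : t.out⁻¹ * t'.out ∈ S.top := by
    have h0 : (t.out⁻¹ * t'.out)⁻¹ ∈ S.top := by
      refine S.mem_top_of_conj_mem_left ha' ha'1 ?_
      rw [inv_inv, ha1]
      exact ha
    have := S.top.inv_mem h0
    rwa [inv_inv] at this
  have he : t = t' := out_eq_of_mem hg
  subst he
  exact ⟨rfl, mul_left_cancel (mul_right_cancel h)⟩

theorem top_card_mul : S.top.index * Nat.card (B ⊓ S.top : Subgroup G) = Nat.card B := by
  have h1 := card_fac S.cop (fac_of_le S.fac S.le_top')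
  rw [inf_eq_left.2 S.le_top'] at h1
  have h2 := S.top.card_mul_index
  rw [h1, ← A.card_mul_index, S.index_eq, mul_assoc] at h2
  rw [mul_comm]
  exact Nat.eq_of_mul_eq_mul_left Nat.card_pos h2

theorem false_of_setup : False := by
  classical
  set L := S.top with hL
  set M := S.symm.top with hM
  set R := B ⊓ L with hR
  set I := A ⊓ M with hI
  let X3 := (G ⧸ L) × (A ⧸ I.subgroupOf A) × {x : R // x ≠ 1} × {x : I // x ≠ 1}
  let f : Unit ⊕ ((G ⧸ L) × {x : A // x ≠ 1}) ⊕ ((G ⧸ M) × {x : B // x ≠ 1}) ⊕ X3 → G :=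
    Sum.elim (fun _ => 1) (Sum.elim (fun x => x.1.out * (x.2.1 : G) * x.1.out⁻¹)
      (Sum.elim (fun x => x.1.out * (x.2.1 : G) * x.1.out⁻¹)
        (fun x => x.1.out * (x.2.1.out : G) * ((x.2.2.1.1 : G) * x.2.2.2.1) *
          (x.1.out * (x.2.1.out : G))⁻¹)))
  have hcoA : ∀ x : A, x ≠ 1 → (x : G) ≠ 1 := fun x h e => h (Subtype.ext e)
  have hpA : ∀ x : A, x ≠ 1 → (x : G) ^ Nat.card B ≠ 1 := fun x h e =>
    hcoA x h (eq_one_of_pow S.cop (S.pow_card_left x.2) e)
  have hpB : ∀ x : B, x ≠ 1 → (x : G) ^ Nat.card A ≠ 1 := fun x h e =>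
    h (Subtype.ext (eq_one_of_pow S.cop e (S.symm.pow_card_left x.2)))
  have hmixcomm : ∀ (r : R) (a : I), Commute (r : G) (a : G) := fun r a =>
    (S.commute_inf a.2.1 a.2.2 r.2.1 r.2.2).symm
  -- the powers of the three kinds of elements
  have hmixA : ∀ x : X3, (f (Sum.inr (Sum.inr (Sum.inr x)))) ^ Nat.card A ≠ 1 := by
    rintro ⟨t, α, ⟨r, hr⟩, ⟨a, ha⟩⟩ h
    simp only [f, Sum.elim_inr, conj_pow, mul_inv_eq_one, mul_eq_left,
      (hmixcomm r a).mul_pow, S.pow_card_left a.2.1, mul_one] at h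
    exact hpB ⟨r, r.2.1⟩ (fun e => hr (Subtype.ext (congrArg (fun y : B => (y : G)) e))) h
  have hmixB : ∀ x : X3, (f (Sum.inr (Sum.inr (Sum.inr x)))) ^ Nat.card B ≠ 1 := by
    rintro ⟨t, α, ⟨r, hr⟩, ⟨a, ha⟩⟩ h
    simp only [f, Sum.elim_inr, conj_pow, mul_inv_eq_one, mul_eq_left,
      (hmixcomm r a).mul_pow, S.symm.pow_card_left r.2.1, one_mul] at h
    exact hpA ⟨a, a.2.1⟩ (fun e => ha (Subtype.ext (congrArg (fun y : A => (y : G)) e))) h
  have hleftA : ∀ x, (f (Sum.inr (Sum.inl x))) ^ Nat.card A = 1 := fun x => by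
    simp only [f, Sum.elim_inr, Sum.elim_inl, conj_pow, S.pow_card_left x.2.1.2, mul_one, mul_inv_cancel]
  have hleftB : ∀ x, (f (Sum.inr (Sum.inl x))) ^ Nat.card B ≠ 1 := fun x h => by
    simp only [f, Sum.elim_inr, Sum.elim_inl, conj_pow, mul_inv_eq_one, mul_eq_left] at h
    exact hpA x.2.1 x.2.2 h
  have hrightB : ∀ x, (f (Sum.inr (Sum.inr (Sum.inl x)))) ^ Nat.card B = 1 := fun x => by
    simp only [f, Sum.elim_inr, Sum.elim_inl, conj_pow, S.symm.pow_card_left x.2.1.2, mul_one, mul_inv_cancel]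
  have hrightA : ∀ x, (f (Sum.inr (Sum.inr (Sum.inl x)))) ^ Nat.card A ≠ 1 := fun x h => by
    simp only [f, Sum.elim_inr, Sum.elim_inl, conj_pow, mul_inv_eq_one, mul_eq_left] at h
    exact hpB x.2.1 x.2.2 h
  have hinj : Function.Injective f := by
    rintro (⟨⟩ | x | x | x) (⟨⟩ | y | y | y) h
    · rfl
    · exact absurd (by rw [← h]; exact one_pow _) (hleftB y)
    · exact absurd (by rw [← h]; exact one_pow _) (hrightA y)
    · exact absurd (by rw [← h]; exact one_pow _) (hmixA y)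
    · exact absurd (by rw [h]; exact one_pow _) (hleftB x)
    · obtain ⟨e1, e2⟩ := S.block_inj x.2.1.2 y.2.1.2 (hcoA _ y.2.2) h
      exact congrArg (fun z => Sum.inr (Sum.inl z)) (Prod.ext e1 (Subtype.ext (Subtype.ext e2)))
    · exact absurd (by rw [← h]; exact hleftA x) (hrightA y)
    · exact absurd (by rw [← h]; exact hleftA x) (hmixA y)
    · exact absurd (by rw [h]; exact one_pow _) (hrightA x)
    · exact absurd (by rw [h]; exact hleftA y) (hrightA x)
    · obtain ⟨e1, e2⟩ := S.symm.block_inj x.2.1.2 y.2.1.2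
        (fun e => y.2.2 (Subtype.ext e)) h
      exact congrArg (fun z => Sum.inr (Sum.inr (Sum.inl z))) (Prod.ext e1 (Subtype.ext (Subtype.ext e2)))
    · exact absurd (by rw [← h]; exact hrightB x) (hmixB y)
    · exact absurd (by rw [h]; exact one_pow _) (hmixA x)
    · exact absurd (by rw [h]; exact hleftA y) (hmixA x)
    · exact absurd (by rw [h]; exact hrightB y) (hmixB x)
    · obtain ⟨t, α, ⟨r, hr⟩, ⟨a, ha⟩⟩ := x
      obtain ⟨t', α', ⟨r', hr'⟩, ⟨a', ha'⟩⟩ := y
      simp only [f, Sum.elim_inr] at h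
      have hpow : ∀ n : ℕ, t.out * (α.out : G) * ((r : G) ^ n * (a : G) ^ n) * (t.out * (α.out : G))⁻¹ =
          t'.out * (α'.out : G) * ((r' : G) ^ n * (a' : G) ^ n) * (t'.out * (α'.out : G))⁻¹ := fun n => by
        rw [← (hmixcomm r a).mul_pow, ← (hmixcomm r' a').mul_pow, ← conj_pow, ← conj_pow, h]
      have hB := hpow (Nat.card B)
      rw [S.symm.pow_card_left r.2.1, S.symm.pow_card_left r'.2.1, one_mul, one_mul] at hB
      have hA1 : ∀ (z : A) (w : I), (z : G) * (w : G) ^ Nat.card B * (z : G)⁻¹ ∈ A := fun z w =>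
        A.mul_mem (A.mul_mem z.2 (A.pow_mem w.2.1 _)) (A.inv_mem z.2)
      obtain ⟨e1, -⟩ := S.block_inj (t := t) (t' := t') (hA1 α.out a) (hA1 α'.out a')
        (fun e => hpA ⟨a', a'.2.1⟩ (fun e' => ha' (Subtype.ext (congrArg (fun y : A => (y : G)) e')))
          (by rwa [mul_inv_eq_one, mul_eq_left] at e))
        (by simpa [mul_inv_rev, mul_assoc] using hB)
      subst e1
      have hA2 := hpow (Nat.card A)
      rw [S.pow_card_left a.2.1, S.pow_card_left a'.2.1, mul_one, mul_one] at hA2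
      set s := (r : G) ^ Nat.card A with hs
      set γ := (α'.out : G)⁻¹ * (α.out : G) with hγ
      have hγA : γ ∈ A := A.mul_mem (A.inv_mem α'.out.2) α.out.2
      have hconj : γ * s * γ⁻¹ = (r' : G) ^ Nat.card A := by
        have := congrArg (fun x => (t.out * (α'.out : G))⁻¹ * x * (t.out * (α'.out : G))) hA2
        simpa [hγ, mul_inv_rev, mul_assoc] using this
      have hsB : s ∈ B := B.pow_mem r.2.1 _
      have hsL : s ∈ L := L.pow_mem r.2.2 _
      have hcom : γ * s = s * γ := by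
        have h1 : γ * s * γ⁻¹ * s⁻¹ ∈ A ⊓ B := by
          refine ⟨?_, ?_⟩
          · rw [show γ * s * γ⁻¹ * s⁻¹ = γ * (s * γ⁻¹ * s⁻¹) by group]
            exact A.mul_mem hγA ((mem_normalizer_iff.1 (S.left_le_top_normalizer hsL) _).1 (A.inv_mem hγA))
          · rw [hconj]; exact B.mul_mem (B.pow_mem r'.2.1 _) (B.inv_mem hsB)
        rw [inf_eq_bot_of_coprime S.cop, mem_bot, mul_inv_eq_one, mul_inv_eq_iff_eq_mul] at h1
        exact h1
      have hγM : γ ∈ M := S.mem_symm_top_of_commute hsB hsL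
        (hpB ⟨r, r.2.1⟩ fun e' => hr (Subtype.ext (congrArg (fun y : B => (y : G)) e'))) hγA hcom
      have e2 : α' = α := out_eq_of_mem (show α'.out⁻¹ * α.out ∈ I.subgroupOf A from ⟨hγA, hγM⟩)
      subst e2
      have h0 := mul_left_cancel (mul_right_cancel h)
      obtain ⟨e3, e4⟩ := eq_of_mul_eq S.cop a.2.1 a'.2.1 r.2.1 r'.2.1 h0
      obtain rfl : a = a' := Subtype.ext e3
      obtain rfl : r = r' := Subtype.ext e4
      rfl
  have hcard := Nat.card_le_card_of_injective f hinj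
  simp only [X3, Nat.card_sum, Nat.card_prod] at hcard
  rw [← Subgroup.index_eq_card, ← Subgroup.index_eq_card, ← Subgroup.index_eq_card,
    ← A.card_mul_index, S.index_eq, Nat.card_unique] at hcard
  have hA := card_ne_one_subtype A
  have hB := card_ne_one_subtype B
  have hR' := card_ne_one_subtype R
  have hI' := card_ne_one_subtype I
  have hn := S.top_card_mul
  have hm := S.symm.top_card_mul
  have hIi : (I.subgroupOf A).index = M.index := by
    have h1 := (I.subgroupOf A).card_mul_index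
    rw [Nat.card_congr (subgroupOfEquivOfLe (inf_le_left : I ≤ A)).toEquiv] at h1
    rw [← hm, mul_comm (M.index)] at h1
    exact Nat.eq_of_mul_eq_mul_left Nat.card_pos h1
  rw [hIi] at hcard
  have hn2 : 2 ≤ L.index := by
    have h1 : L.index ≠ 1 := fun e => S.top_ne_top (index_eq_one.1 e)
    have h2 : L.index ≠ 0 := index_ne_zero_of_finite
    omega
  have hm2 : 2 ≤ M.index := by
    have h1 : M.index ≠ 1 := fun e => S.symm.top_ne_top (index_eq_one.1 e)
    have h2 : M.index ≠ 0 := index_ne_zero_of_finite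
    omega
  rw [← hR] at hn
  rw [← hI] at hm
  generalize Nat.card {x : A // x ≠ 1} = a1 at *
  generalize Nat.card {x : B // x ≠ 1} = b1 at *
  generalize Nat.card {x : R // x ≠ 1} = r1 at *
  generalize Nat.card {x : I // x ≠ 1} = i1 at *
  rw [← hR'] at hn
  rw [← hI'] at hm
  rw [← hn, ← hm] at hcard
  rw [← hm] at hA
  rw [← hn] at hB
  nlinarith

end Setup

end Cfsg.Agent.Grp.Wielandt
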