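import Cfsg.Agent.Lib.Grp.Wielandt.Basic
import Cfsg.Agent.Lib.Grp.Hall

/-!
In a solvable factorised subgroup the Sylow subgroups of the two factors permute.
-/

set_option autoImplicit false
set_option linter.style.haveILetI false
set_option linter.unusedSectionVars false

namespace Cfsg.Agent.Grp.Wielandt

open scoped Pointwise
open Subgroup

universe u

variable {G : Type u} [Group G] [Finite G]

/-- The Sylow `t`-subgroup of a nilpotent subgroup. -/
abbrev part (B : Subgroup G) (t : ℕ) : Subgroup G := (Cfsg.pCore t B).map B.subtype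

theorem mem_part {B : Subgroup G} (hB : Group.IsNilpotent B) {t : ℕ} [Fact t.Prime] {x : G}
    (hx : x ∈ B) {n : ℕ} (hn : x ^ t ^ n = 1) : x ∈ part B t := by
  obtain ⟨i, -, hi⟩ := (Nat.dvd_prime_pow Fact.out).1
    (orderOf_dvd_of_pow_eq_one (show (⟨x, hx⟩ : B) ^ t ^ n = 1 from Subtype.ext hn))
  obtain ⟨P, hP⟩ := (show IsPGroup t (zpowers (⟨x, hx⟩ : B)) from
    IsPGroup.of_card (n := i) (by rw [Nat.card_zpowers, hi])).exists_le_sylow
  exact ⟨⟨x, hx⟩, le_pCore (isNilpotent_iff_sylow_normal.1 hB t inferInstance P) P.isPGroup'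
    (hP (mem_zpowers _)), rfl⟩

theorem exists_pow_of_mem_part {B : Subgroup G} {t : ℕ} {x : G} (hx : x ∈ part B t) :
    ∃ n, x ^ t ^ n = 1 := by
  obtain ⟨y, hy, rfl⟩ := hx
  obtain ⟨n, hn⟩ := pCore_isPGroup (p := t) (G := B) ⟨y, hy⟩
  exact ⟨n, congrArg (fun z : (Cfsg.pCore t B : Subgroup B) => ((z : B) : G)) hn⟩

theorem eq_of_mul_eq {A B : Subgroup G} (hcop : (Nat.card A).Coprime (Nat.card B)) {a a' b b' : G}
    (ha : a ∈ A) (ha' : a' ∈ A) (hb : b ∈ B) (hb' : b' ∈ B) (h : b * a = b' * a') : a = a' ∧ b = b' := by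
  have h1 : a' * a⁻¹ ∈ A ⊓ B := by
    refine ⟨A.mul_mem ha' (A.inv_mem ha), ?_⟩
    have e : a' * a⁻¹ = b'⁻¹ * b := by
      rw [eq_inv_mul_iff_mul_eq, ← mul_assoc, ← h, mul_inv_cancel_right]
    rw [e]
    exact B.mul_mem (B.inv_mem hb') hb
  rw [inf_eq_bot_of_coprime hcop, mem_bot, mul_inv_eq_one] at h1
  subst h1
  exact ⟨rfl, mul_right_cancel h⟩

variable {A B : Subgroup G}

theorem exists_swap (hB : Group.IsNilpotent B) (hcop : (Nat.card A).Coprime (Nat.card B))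
    {K : Subgroup G} (hK : Fac A B K) (hsol : Group.IsSolvable K) {t : ℕ} [ht : Fact t.Prime]
    {a b : G} (ha : a ∈ A ⊓ K) (hb : b ∈ part B t ⊓ K) :
    ∃ b' ∈ part B t, ∃ a' ∈ A, a * b = b' * a' := by
  set e := (Nat.card (B ⊓ K : Subgroup G)).factorization t with he
  obtain ⟨r, hr⟩ := Nat.ordProj_dvd (Nat.card (B ⊓ K : Subgroup G)) t
  set α := Nat.card (A ⊓ K : Subgroup G) with hα
  have hne : Nat.card (B ⊓ K : Subgroup G) ≠ 0 := Nat.card_pos.ne'
  have htr : ¬ t ∣ r := by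
    have := Nat.not_dvd_ordCompl ht.out hne
    rwa [show Nat.card (B ⊓ K : Subgroup G) / t ^ e = r from by
      rw [hr]; exact Nat.mul_div_cancel_left _ (pow_pos ht.out.pos _)] at this
  have hαB : α.Coprime (Nat.card (B ⊓ K : Subgroup G)) :=
    Nat.Coprime.coprime_dvd_right (card_dvd_of_le inf_le_left)
      (hcop.coprime_dvd_left (card_dvd_of_le inf_le_left))
  have hmn : (α * t ^ e).Coprime r := by
    refine Nat.Coprime.mul_left (hαB.coprime_dvd_right ⟨t ^ e, by rw [hr, mul_comm]⟩) ?_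
    exact ((ht.out.coprime_iff_not_dvd).2 htr).pow_left e
  have hcard : Nat.card K = α * t ^ e * r := by
    rw [card_fac hcop hK, hr, mul_assoc]
  obtain ⟨H, hH⟩ := exists_hall (G := K) hcard hmn
  have hAK : Nat.card ((A ⊓ K).subgroupOf K) = α :=
    Nat.card_congr (subgroupOfEquivOfLe inf_le_right).toEquiv
  obtain ⟨g, hg⟩ := exists_conj_le_hall (G := K) hcard hmn (H := H) (K := (A ⊓ K).subgroupOf K) hH
    (by rw [hAK]; exact hmn.coprime_dvd_left (dvd_mul_right _ _))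
  set W := (MulAut.conj g • H).map K.subtype with hW
  have hWK : W ≤ K := map_subtype_le _
  have hWc : Nat.card W = α * t ^ e := by
    rw [hW, card_map_of_injective K.subtype_injective, card_conj_smul, hH]
  have hAW : A ⊓ K ≤ W := fun x hx =>
    ⟨⟨x, hx.2⟩, hg (show (⟨x, hx.2⟩ : K) ∈ (A ⊓ K).subgroupOf K from hx), rfl⟩
  have hWfac : Fac A B W := fun x hx => by
    obtain ⟨a₁, ha₁, b₁, hb₁, e₁⟩ := hK x (hWK hx)
    refine ⟨a₁, ⟨ha₁.1, hAW ha₁⟩, b₁, ⟨hb₁.1, ?_⟩, e₁⟩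
    have : b₁ = a₁⁻¹ * x := by rw [e₁, inv_mul_cancel_left]
    rw [this]
    exact W.mul_mem (W.inv_mem (hAW ha₁)) hx
  have hAW' : A ⊓ W = A ⊓ K := le_antisymm (le_inf inf_le_left (inf_le_right.trans hWK))
    (le_inf inf_le_left hAW)
  have hBW : Nat.card (B ⊓ W : Subgroup G) = t ^ e := by
    have := card_fac hcop hWfac
    rw [hWc, hAW', ← hα] at this
    exact (Nat.eq_of_mul_eq_mul_left Nat.card_pos this).symm
  have hBWle : B ⊓ W ≤ part B t ⊓ K := fun x hx => ⟨mem_part hB hx.1 (n := e) (by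
    have := pow_card_eq_one' (G := (B ⊓ W : Subgroup G)) (x := ⟨x, hx⟩)
    rw [hBW] at this
    exact congrArg Subtype.val this), hWK hx.2⟩
  have hle : Nat.card (part B t ⊓ K : Subgroup G) ≤ t ^ e := by
    have hp : IsPGroup t (part B t ⊓ K : Subgroup G) :=
      ((pCore_isPGroup (p := t) (G := B)).map _).to_le inf_le_left
    obtain ⟨i, hi⟩ := hp.exists_card_eq
    have hd : t ^ i ∣ Nat.card (B ⊓ K : Subgroup G) :=
      hi ▸ card_dvd_of_le (inf_le_inf_right K (map_subtype_le _))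
    rw [hi]
    exact Nat.pow_le_pow_right ht.out.pos ((ht.out.pow_dvd_iff_le_factorization hne).1 hd)
  have heq : B ⊓ W = part B t ⊓ K := eq_of_le_of_card_ge hBWle (by rw [hBW]; exact hle)
  have hab : (a * b)⁻¹ ∈ W :=
    W.inv_mem (W.mul_mem (hAW ha) ((heq ▸ hb : b ∈ B ⊓ W)).2)
  obtain ⟨a₁, ha₁, b₁, hb₁, e₁⟩ := hWfac _ hab
  exact ⟨b₁⁻¹, (part B t).inv_mem (hBWle hb₁).1, a₁⁻¹, A.inv_mem ha₁.1,
    by rw [← mul_inv_rev, ← e₁, inv_inv]⟩

/-- In a solvable product of nilpotent subgroups of coprime orders the Sylow subgroups permute. -/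
theorem sylow_permute (hA : Group.IsNilpotent A) (hB : Group.IsNilpotent B)
    (hcop : (Nat.card A).Coprime (Nat.card B)) {K : Subgroup G} (hK : Fac A B K)
    (hsol : Group.IsSolvable K) {p t : ℕ} [Fact p.Prime] [Fact t.Prime] {a b : G}
    (ha : a ∈ part A p ⊓ K) (hb : b ∈ part B t ⊓ K) :
    ∃ b' ∈ part B t, ∃ a' ∈ part A p, a * b = b' * a' := by
  obtain ⟨b₁, hb₁, a₁, ha₁, e₁⟩ := exists_swap hB hcop hK hsol
    (show a ∈ A ⊓ K from ⟨map_subtype_le _ ha.1, ha.2⟩) hb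
  obtain ⟨a₂, ha₂, b₂, hb₂, e₂⟩ := exists_swap hA hcop.symm hK.symm hsol
    (show b⁻¹ ∈ B ⊓ K from ⟨B.inv_mem (map_subtype_le _ hb.1), K.inv_mem hb.2⟩)
    ((part A p ⊓ K).inv_mem ha)
  refine ⟨b₁, hb₁, a₁, ?_, e₁⟩
  have : b₁ * a₁ = b₂⁻¹ * a₂⁻¹ := by rw [← e₁, ← mul_inv_rev, ← e₂, mul_inv_rev, inv_inv, inv_inv]
  rw [(eq_of_mul_eq hcop ha₁ (A.inv_mem (map_subtype_le _ ha₂)) (map_subtype_le _ hb₁)
    (B.inv_mem hb₂) this).1]
  exact (part A p).inv_mem ha₂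

end Cfsg.Agent.Grp.Wielandt
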