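import Cfsg.Agent.Lib.Grp.Wielandt.Lattice
import Cfsg.Agent.Lib.Grp.Wielandt.Permute

/-!
No proper subgroup of a minimal counterexample contains nontrivial central elements of both factors.
-/

set_option autoImplicit false
set_option linter.style.haveILetI false
set_option linter.unusedSectionVars false

namespace Cfsg.Agent.Grp.Wielandt

open scoped Pointwise
open Subgroup

universe u

variable {G : Type u} [Group G] [Finite G]

/-- `x` is a central element of prime order `p` of `A`. -/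
structure IsCentral (A : Subgroup G) (p : ℕ) (x : G) : Prop where
  prime : p.Prime
  mem : x ∈ A
  order : orderOf x = p
  comm : ∀ a ∈ A, a * x = x * a

theorem IsCentral.ne_one {A : Subgroup G} {p : ℕ} {x : G} (h : IsCentral A p x) : x ≠ 1 :=
  fun e => h.prime.ne_one (by rw [← h.order, e, orderOf_one])

theorem IsCentral.dvd {A : Subgroup G} {p : ℕ} {x : G} (h : IsCentral A p x) : p ∣ Nat.card A :=
  h.order ▸ A.orderOf_dvd_natCard h.mem

namespace Setup

variable {A B : Subgroup G} (S : Setup A B)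
include S

theorem exists_isCentral {p : ℕ} (hp : p.Prime) (hd : p ∣ Nat.card A) : ∃ x, IsCentral A p x := by
  obtain ⟨x, hx, ho, hc⟩ := exists_central_prime S.nilA hp hd
  exact ⟨x, hp, hx, ho, hc⟩

theorem not_mem_top {s : ℕ} {y : G} (hy : IsCentral B s y) : y ∉ S.top :=
  S.symm.central_not_mem hy.ne_one hy.comm S.le_top' S.top_ne_top

theorem conj_not_mem {q s : ℕ} {u y : G} (hu : IsCentral A q u) (hy : IsCentral B s y) :
    y * u * y⁻¹ ∉ A := fun h =>
  S.not_mem_top hy (S.mem_top_of_conj_mem hu.prime hu.order hu.comm h)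

theorem core_le {N : Subgroup G} (hN : Fac A B N) {r : ℕ} [hr : Fact r.Prime]
    (h : ¬ r ∣ Nat.card B) : (Cfsg.pCore r N).map N.subtype ≤ A := by
  obtain ⟨n, hn⟩ := ((pCore_isPGroup (p := r) (G := N)).map N.subtype).exists_card_eq
  exact le_left_of_normal S.cop hN (map_subtype_le _) (le_normalizer_coreIn N _)
    (hn ▸ (hr.out.coprime_iff_not_dvd.2 h).pow_left n)

/-- The Fitting subgroup of a factorised proper subgroup containing central elements of both
factors involves the prime of the element of `B`. -/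
theorem core_ne_bot {N : Subgroup G} (hN : Fac A B N) (hne : N ≠ ⊤) {q s : ℕ} {u y : G}
    (hu : IsCentral A q u) (hy : IsCentral B s y) (huN : u ∈ N) (hyN : y ∈ N) :
    (Cfsg.pCore s N).map N.subtype ≠ ⊥ := by
  intro hbot
  refine S.conj_not_mem hu hy ?_
  haveI := Fact.mk hy.prime
  set C : ℕ → Subgroup G := fun r => (Cfsg.pCore r N).map N.subtype with hC
  have hB : ∀ r : ℕ, r.Prime → r ∣ Nat.card B → C r ≤ B := fun r hr hd =>
    haveI := Fact.mk hr
    S.symm.core_le hN.symm fun h => hr.not_dvd_one (S.cop ▸ Nat.dvd_gcd h hd)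
  have hA : ∀ r : ℕ, r.Prime → ¬ r ∣ Nat.card B → C r ≤ A := fun r hr hd =>
    haveI := Fact.mk hr
    S.core_le hN hd
  set Fa := ⨆ (r : Nat.Primes) (_ : ¬ (r : ℕ) ∣ Nat.card B), C r with hFa
  set Fb := ⨆ (r : Nat.Primes) (_ : (r : ℕ) ∣ Nat.card B), C r with hFb
  have hFaA : Fa ≤ A := iSup₂_le fun r hd => hA r r.2 hd
  have hFbB : Fb ≤ B := iSup₂_le fun r hd => hB r r.2 hd
  have hnorm : ∀ (P : Nat.Primes → Prop) (g : G), g ∈ N →
      g ∈ normalizer ((⨆ (r : Nat.Primes) (_ : P r), C r : Subgroup G) : Set G) := by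
    intro P g hg
    refine mem_normalizer_of_le ?_
    rw [← map_conj_eq_smul, Subgroup.map_iSup]
    refine iSup_le fun r => ?_
    rw [Subgroup.map_iSup]
    exact iSup_le fun hr => le_iSup₂_of_le r hr
      (mem_normalizer_of_map_eq.1 (le_normalizer_coreIn N (r : ℕ) hg)).le
  have hFaN : Fa ≤ N := iSup₂_le fun r _ => map_subtype_le _
  have hFbN : Fb ≤ N := iSup₂_le fun r _ => map_subtype_le _
  have hcomm : ∀ d ∈ Fa, ∀ e ∈ Fb, d * e = e * d := by
    intro d hd e he
    have h1 : d * e * d⁻¹ * e⁻¹ ∈ A ⊓ B := by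
      refine ⟨?_, ?_⟩
      · rw [show d * e * d⁻¹ * e⁻¹ = d * (e * d⁻¹ * e⁻¹) by group]
        exact A.mul_mem (hFaA hd) (hFaA
          ((mem_normalizer_iff.1 (hnorm _ e (hFbN he)) _).1 (Fa.inv_mem hd)))
      · exact B.mul_mem (hFbB ((mem_normalizer_iff.1 (hnorm _ d (hFaN hd)) _).1 he))
          (B.inv_mem (hFbB he))
    rw [inf_eq_bot_of_coprime S.cop, mem_bot, mul_inv_eq_one, mul_inv_eq_iff_eq_mul] at h1
    exact h1
  set w := y * u * y⁻¹ * u⁻¹ with hw
  have hwN : w ∈ N := N.mul_mem (N.mul_mem (N.mul_mem hyN huN) (N.inv_mem hyN)) (N.inv_mem huN)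
  have hwF : w ∈ fittingIn N := by
    refine mem_fittingIn_of_centralize (S.small N hne hN) hwN fun r hr f hf => ?_
    haveI := Fact.mk hr
    by_cases hd : r ∣ Nat.card B
    · -- `y` centralises, `u` normalises
      have hyc : ∀ g ∈ C r, g * y = y * g := fun g hg => hy.comm g (hB r hr hd hg)
      have hf2 : u⁻¹ * f * u ∈ C r := by
        have := (mem_normalizer_iff.1 (le_normalizer_coreIn N r (N.inv_mem huN)) f).1 hf
        rwa [inv_inv] at this
      have e1 : f * y = y * f := hyc f hf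
      have e2 : (u⁻¹ * f * u) * y⁻¹ = y⁻¹ * (u⁻¹ * f * u) :=
        (Commute.inv_right (hyc _ hf2 : Commute _ y)).eq
      calc f * w = (f * y) * u * y⁻¹ * u⁻¹ := by rw [hw]; group
        _ = y * u * ((u⁻¹ * f * u) * y⁻¹) * u⁻¹ := by rw [e1]; group
        _ = w * f := by rw [e2, hw]; group
    · have huc : ∀ g ∈ C r, g * u = u * g := fun g hg => hu.comm g (hA r hr hd hg)
      have hf' : y⁻¹ * f * y ∈ C r := by
        have := (mem_normalizer_iff.1 (le_normalizer_coreIn N r (N.inv_mem hyN)) f).1 hf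
        rwa [inv_inv] at this
      have h1 : f * (y * u * y⁻¹) = y * u * y⁻¹ * f := by
        have := congrArg (fun z => y * z * y⁻¹) (huc _ hf')
        simpa [mul_assoc] using this
      have h2 : f * u⁻¹ = u⁻¹ * f := (Commute.inv_right (huc f hf : Commute f u)).eq
      rw [hw, ← mul_assoc, h1, mul_assoc, h2, ← mul_assoc]
  have hle : fittingIn N ≤ Fa ⊔ Fb := by
    rw [fittingIn_eq]
    refine iSup_le fun r => ?_
    by_cases hd : (r : ℕ) ∣ Nat.card B
    · exact le_sup_of_le_right (le_iSup₂_of_le r hd le_rfl)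
    · exact le_sup_of_le_left (le_iSup₂_of_le r hd le_rfl)
  have hmul : w ∈ (Fa : Set G) * (Fb : Set G) := by
    rw [← Subgroup.coe_mul_of_left_le_normalizer_right Fa Fb fun g hg => hnorm _ g (hFaN hg)]
    exact hle hwF
  obtain ⟨d, hd, e, he, hde : d * e = w⟩ := hmul
  have hiter : ∀ i : ℕ, ∃ D ∈ Fa, y ^ i * u * (y ^ i)⁻¹ = D * e ^ i * u := by
    intro i
    induction i with
    | zero => exact ⟨1, Fa.one_mem, by simp⟩
    | succ i ih =>
      obtain ⟨D, hD, hD'⟩ := ih
      have hyD : y * D * y⁻¹ ∈ Fa := (mem_normalizer_iff.1 (hnorm _ y hyN) D).1 hD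
      refine ⟨y * D * y⁻¹ * d, Fa.mul_mem hyD hd, ?_⟩
      have hey : Commute e y := hy.comm e (hFbB he)
      have hde' : Commute d e := hcomm d hd e he
      have he1 : Commute y (e ^ i) := hey.symm.pow_right i
      have he2 : Commute d (e ^ i) := hde'.pow_right i
      calc y ^ (i + 1) * u * (y ^ (i + 1))⁻¹ = y * (y ^ i * u * (y ^ i)⁻¹) * y⁻¹ := by
            rw [pow_succ']; group
        _ = y * D * y⁻¹ * (y * e ^ i) * u * y⁻¹ := by rw [hD']; group
        _ = y * D * y⁻¹ * (e ^ i * y) * u * y⁻¹ := by rw [he1.eq]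
        _ = y * D * y⁻¹ * (e ^ i * w) * u := by rw [hw]; group
        _ = y * D * y⁻¹ * ((e ^ i * d) * e) * u := by rw [← hde]; group
        _ = y * D * y⁻¹ * ((d * e ^ i) * e) * u := by rw [he2.eq]
        _ = y * D * y⁻¹ * d * e ^ (i + 1) * u := by rw [pow_succ]; group
  obtain ⟨D, hD, hDe⟩ := hiter s
  rw [← hy.order, pow_orderOf_eq_one, one_mul, inv_one, mul_one, hy.order] at hDe
  have hes : e ^ s = 1 := by
    have h1 : D * e ^ s = 1 := mul_right_cancel (b := u) (by rw [one_mul]; exact hDe.symm)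
    have h2 : e ^ s ∈ A ⊓ B := ⟨by
      rw [eq_inv_of_mul_eq_one_right h1]; exact A.inv_mem (hFaA hD), B.pow_mem (hFbB he) s⟩
    rwa [inf_eq_bot_of_coprime S.cop, mem_bot] at h2
  have hFb' : Fb ≤ cpl B s := by
    refine iSup₂_le fun r hd f hf => ?_
    by_cases hrs : (r : ℕ) = s
    · have : f = 1 := by
        rw [hC] at hf
        simp only [hrs, hbot, mem_bot] at hf
        exact hf
      rw [this]; exact one_mem _
    · haveI := Fact.mk r.2
      obtain ⟨i, hi⟩ := pow_eq_one_of_mem_coreIn hf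
      exact mem_cpl (hB r r.2 hd hf) fun h => hrs
        ((Nat.prime_dvd_prime_iff_eq hy.prime r.2).1
          (hy.prime.dvd_of_dvd_pow (h.trans (orderOf_dvd_of_pow_eq_one hi)))).symm
  have he1 : e = 1 := by
    rw [← orderOf_eq_one_iff]
    rcases (Nat.dvd_prime hy.prime).1 (orderOf_dvd_of_pow_eq_one hes) with h | h
    · exact h
    · exact absurd (dvd_of_eq h.symm) (not_dvd_of_mem_cpl S.nilB hy.prime (hFb' he))
  have : y * u * y⁻¹ = d * u := by
    rw [he1, mul_one] at hde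
    rw [hde, hw, inv_mul_cancel_right]
  rw [this]
  exact A.mul_mem (hFaA hd) hu.mem

/-- Some proper factorised subgroup contains central elements of orders `q` and `s`. -/
def Live (A B : Subgroup G) (q s : ℕ) : Prop :=
  ∃ (N : Subgroup G) (u y : G), Fac A B N ∧ N ≠ ⊤ ∧ IsCentral A q u ∧ IsCentral B s y ∧ u ∈ N ∧ y ∈ N

theorem live_symm {q s : ℕ} (h : Live A B q s) : Live B A s q :=
  let ⟨N, u, y, hN, hne, hu, hy, huN, hyN⟩ := h
  ⟨N, y, u, hN.symm, hne, hy, hu, hyN, huN⟩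

/-- From a live pair, the part of `A` prime to `q` together with `y` lies in a proper factorised
subgroup. -/
theorem live_step {q s : ℕ} (h : Live A B q s) : ∃ (N : Subgroup G) (y : G),
    Fac A B N ∧ N ≠ ⊤ ∧ IsCentral B s y ∧ y ∈ N ∧ cpl A q ≤ N := by
  obtain ⟨N, u, y, hN, hne, hu, hy, huN, hyN⟩ := h
  haveI := Fact.mk hu.prime
  set D := (Cfsg.pCore q N).map N.subtype with hD
  have hDne : D ≠ ⊥ := S.symm.core_ne_bot hN.symm hne hy hu hyN huN
  have hDA : D ≤ A := S.core_le hN fun hd => hu.prime.not_dvd_one (S.cop ▸ Nat.dvd_gcd hu.dvd hd)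
  have hND : normalizer (D : Set G) ≠ ⊤ :=
    S.normalizer_ne_top hDne fun e => S.left_ne_top (top_le_iff.1 (e ▸ hDA))
  have hle : cpl A q ⊔ zpowers y ≤ normalizer (D : Set G) := by
    refine sup_le (fun c hc => mem_normalizer_of_le ?_) (zpowers_le.2 (le_normalizer_coreIn N q hyN))
    rw [← map_conj_eq_smul]
    rintro _ ⟨f, hf, rfl⟩
    obtain ⟨i, hi⟩ := pow_eq_one_of_mem_coreIn hf
    simp only [MulEquiv.coe_toMonoidHom, MulAut.conj_apply]
    rw [← commute_cpl S.nilA hu.prime (hDA hf) hi hc, mul_inv_cancel_right]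
    exact hf
  have hBy : B ≤ normalizer (zpowers y : Set G) := fun b hb => mem_normalizer_of_le (by
    rw [← map_conj_eq_smul, MonoidHom.map_zpowers, zpowers_le]
    simp only [MulEquiv.coe_toMonoidHom, MulAut.conj_apply]
    rw [hy.comm b hb, mul_inv_cancel_right]
    exact mem_zpowers y)
  refine ⟨_, y, fac_normalizer S.fac (le_normalizer_cpl A q) hBy, ?_, hy,
    le_normalizer (mem_sup_right (mem_zpowers y)), le_sup_left.trans le_normalizer⟩
  refine S.normalizer_ne_top (fun e => hy.ne_one ?_) fun e => hND (top_le_iff.1 (e ▸ hle))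
  exact mem_bot.1 (e ▸ mem_sup_right (mem_zpowers y))

theorem live_left {q s : ℕ} (h : Live A B q s) {p : ℕ} (hp : p.Prime) (hpA : p ∣ Nat.card A) :
    Live A B p s := by
  have key : ∀ {q p : ℕ}, Live A B q s → p.Prime → p ∣ Nat.card A → p ≠ q → Live A B p s := by
    intro q p h hp hpA hpq
    have hq : q.Prime := let ⟨_, _, _, _, _, hu, _⟩ := h; hu.prime
    obtain ⟨N, y, hN, hne, hy, hyN, hle⟩ := S.live_step h
    obtain ⟨u, hu⟩ := S.exists_isCentral hp hpA
    refine ⟨N, u, y, hN, hne, hu, hy, hle (mem_cpl hu.mem ?_), hyN⟩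
    rw [hu.order]
    exact fun hd => hpq ((Nat.prime_dvd_prime_iff_eq hq hp).1 hd).symm
  by_cases hpq : p = q
  · obtain ⟨r, hr, hne, hrA⟩ := S.exists_other_prime q
    exact key (key h hr hrA hne) hp hpA (fun e => hne (by rw [← e, hpq]))
  · exact key h hp hpA hpq

theorem live_all {q s : ℕ} (h : Live A B q s) {p t : ℕ} (hp : p.Prime) (hpA : p ∣ Nat.card A)
    (ht : t.Prime) (htB : t ∣ Nat.card B) : Live A B p t :=
  S.symm.live_symm (S.symm.live_left (S.live_symm (S.live_left h hp hpA)) ht htB)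

/-- From a live pair, the complementary parts lie in a proper factorised subgroup. -/
theorem live_full {q s : ℕ} (h : Live A B q s) :
    ∃ N : Subgroup G, Fac A B N ∧ N ≠ ⊤ ∧ cpl A q ≤ N ∧ cpl B s ≤ N := by
  have hq : q.Prime := let ⟨_, _, _, _, _, hu, _⟩ := h; hu.prime
  have hs : s.Prime := let ⟨_, _, _, _, _, _, hy, _⟩ := h; hy.prime
  obtain ⟨N, y, hN, hne, hy, hyN, hle⟩ := S.live_step h
  obtain ⟨p, x, hp, -, hxc, hxo, hxA, hxcomm⟩ := S.exists_central_cpl hq
  haveI := Fact.mk hs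
  set D := (Cfsg.pCore s N).map N.subtype with hD
  have hDne : D ≠ ⊥ := S.core_ne_bot hN hne ⟨hp, hxA, hxo, hxcomm⟩ hy (hle hxc) hyN
  have hDB : D ≤ B := S.symm.core_le hN.symm fun hd => hs.not_dvd_one (S.cop ▸ Nat.dvd_gcd hd hy.dvd)
  have hND : normalizer (D : Set G) ≠ ⊤ :=
    S.normalizer_ne_top hDne fun e => S.symm.left_ne_top (top_le_iff.1 (e ▸ hDB))
  have hH : cpl A q ⊔ cpl B s ≤ normalizer (D : Set G) := by
    refine sup_le (hle.trans (le_normalizer_coreIn N s)) fun c hc => mem_normalizer_of_le ?_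
    rw [← map_conj_eq_smul]
    rintro _ ⟨f, hf, rfl⟩
    obtain ⟨i, hi⟩ := pow_eq_one_of_mem_coreIn hf
    simp only [MulEquiv.coe_toMonoidHom, MulAut.conj_apply]
    rw [← commute_cpl S.nilB hs (hDB hf) hi hc, mul_inv_cancel_right]
    exact hf
  refine ⟨_, fac_normalizer S.fac (le_normalizer_cpl A q) (le_normalizer_cpl B s), ?_,
    le_sup_left.trans le_normalizer, le_sup_right.trans le_normalizer⟩
  refine S.normalizer_ne_top (fun e => hp.ne_one ?_) fun e => hND (top_le_iff.1 (e ▸ hH))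
  rw [← hxo, mem_bot.1 (e ▸ mem_sup_left hxc : x ∈ (⊥ : Subgroup G)), orderOf_one]

/-- No proper factorised subgroup contains central elements of both factors. -/
theorem not_live {q s : ℕ} : ¬ Live A B q s := by
  intro h
  obtain ⟨t, y, ht, hy, -, htB⟩ := exists_prime_order S.symm.left_ne_bot
  haveI := Fact.mk ht
  set Bt := part B t with hBt
  have hswap : ∀ a ∈ A, ∀ b ∈ Bt, ∃ b' ∈ Bt, ∃ a' ∈ A, a * b = b' * a' := by
    let W : Set G := {a | a ∈ A ∧ ∀ b ∈ Bt, ∃ b' ∈ Bt, ∃ a' ∈ A, a * b = b' * a'}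
    suffices ∀ a ∈ A, a ∈ W from fun a ha => (this a ha).2
    have hmul : ∀ x ∈ W, ∀ z ∈ W, x * z ∈ W := by
      rintro x ⟨hx, hx'⟩ z ⟨hz, hz'⟩
      refine ⟨A.mul_mem hx hz, fun b hb => ?_⟩
      obtain ⟨b₁, hb₁, a₁, ha₁, e₁⟩ := hz' b hb
      obtain ⟨b₂, hb₂, a₂, ha₂, e₂⟩ := hx' b₁ hb₁
      exact ⟨b₂, hb₂, a₂ * a₁, A.mul_mem ha₂ ha₁, by rw [mul_assoc, e₁, ← mul_assoc, e₂, mul_assoc]⟩
    have hone : (1 : G) ∈ W := ⟨A.one_mem, fun b hb => ⟨b, hb, 1, A.one_mem, by simp⟩⟩
    have hgen : ∀ p : ℕ, p.Prime → p ∣ Nat.card A → ∀ a ∈ part A p, a ∈ W := by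
      intro p hp hpA a ha
      refine ⟨map_subtype_le _ ha, fun b hb => ?_⟩
      haveI := Fact.mk hp
      obtain ⟨q', hq', hq'p, hq'A⟩ := S.exists_other_prime p
      obtain ⟨s', hs', hs't, hs'B⟩ := S.symm.exists_other_prime t
      obtain ⟨N, hN, hne, hcA, hcB⟩ := S.live_full (S.live_all h hq' hq'A hs' hs'B)
      have haN : a ∈ N := hcA (mem_cpl (map_subtype_le _ ha) fun hd => hq'p (by
        obtain ⟨n, hn⟩ := exists_pow_of_mem_part ha
        exact (Nat.prime_dvd_prime_iff_eq hq' hp).1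
          (hq'.dvd_of_dvd_pow (hd.trans (orderOf_dvd_of_pow_eq_one hn)))))
      have hbN : b ∈ N := hcB (mem_cpl (map_subtype_le _ hb) fun hd => hs't (by
        obtain ⟨n, hn⟩ := exists_pow_of_mem_part hb
        exact (Nat.prime_dvd_prime_iff_eq hs' ht).1
          (hs'.dvd_of_dvd_pow (hd.trans (orderOf_dvd_of_pow_eq_one hn)))))
      obtain ⟨b', hb', a', ha', e⟩ := exists_swap S.nilB S.cop hN (S.small N hne hN)
        (show a ∈ A ⊓ N from ⟨map_subtype_le _ ha, haN⟩) ⟨hb, hbN⟩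
      exact ⟨b', hb', a', ha', e⟩
    intro a ha
    have hd : ∀ n : ℕ, n ∣ Nat.card A → ∀ a ∈ A, a ^ n = 1 → a ∈ W := by
      intro n
      induction n using Nat.strong_induction_on with
      | _ n ih =>
        intro hn a ha han
        have hn0 : n ≠ 0 := fun e => Nat.card_pos.ne' (zero_dvd_iff.1 (e ▸ hn))
        by_cases h1 : n = 1
        · rw [h1, pow_one] at han; rwa [han]
        obtain ⟨p, hp, hpn⟩ := Nat.exists_prime_and_dvd h1
        haveI := Fact.mk hp
        obtain ⟨i, m, hm, e⟩ := Nat.exists_eq_pow_mul_and_not_dvd hn0 p hp.ne_one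
        obtain ⟨c, d, hc, hd', hcp, hdm, hcd⟩ := exists_pow_decomp
          ((hp.coprime_iff_not_dvd.2 hm).pow_left i) (show a ^ (p ^ i * m) = 1 by rw [← e]; exact han)
        rw [hcd]
        refine hmul c (hgen p hp (hpn.trans hn) c
          (mem_part S.nilA (zpowers_le.2 ha hc) hcp)) d (ih m ?_ ?_ d (zpowers_le.2 ha hd') hdm)
        · have hm0 : 0 < m := Nat.pos_of_ne_zero fun e0 => hn0 (by rw [e, e0, mul_zero])
          have hi : i ≠ 0 := fun e0 => hm (by rwa [e, e0, pow_zero, one_mul] at hpn)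
          rw [e]
          exact lt_mul_left hm0 (Nat.one_lt_pow hi hp.one_lt)
        · exact (Dvd.intro_left _ e.symm).trans hn
    exact hd _ dvd_rfl a ha
      (congrArg Subtype.val (pow_card_eq_one' (G := A) (x := ⟨a, ha⟩)))
  let T : Subgroup G :=
    { carrier := {x | ∃ b ∈ Bt, ∃ a ∈ A, x = b * a}
      one_mem' := ⟨1, Bt.one_mem, 1, A.one_mem, by simp⟩
      mul_mem' := by
        rintro _ _ ⟨b, hb, a, ha, rfl⟩ ⟨b', hb', a', ha', rfl⟩
        obtain ⟨b'', hb'', a'', ha'', e⟩ := hswap a ha b' hb'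
        exact ⟨b * b'', Bt.mul_mem hb hb'', a'' * a', A.mul_mem ha'' ha', by
          rw [mul_assoc b, ← mul_assoc a, e]; group⟩
      inv_mem' := by
        rintro _ ⟨b, hb, a, ha, rfl⟩
        obtain ⟨b', hb', a', ha', e⟩ := hswap a⁻¹ (A.inv_mem ha) b⁻¹ (Bt.inv_mem hb)
        exact ⟨b', hb', a', ha', by rw [mul_inv_rev, e]⟩ }
  have hAT : A ≤ T := fun a ha => ⟨1, Bt.one_mem, a, ha, by rw [one_mul]⟩
  have hTne : T ≠ ⊤ := by
    obtain ⟨r, hr, hrt, hrB⟩ := S.symm.exists_other_prime t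
    obtain ⟨z, hz⟩ := S.symm.exists_isCentral hr hrB
    intro e
    obtain ⟨b, hb, a, ha, hz'⟩ : z ∈ T := e ▸ mem_top z
    have hab := (eq_of_mul_eq S.cop A.one_mem ha hz.mem (map_subtype_le _ hb)
      (by rw [mul_one]; exact hz')).2
    obtain ⟨n, hn⟩ := exists_pow_of_mem_part (hab ▸ hb : z ∈ Bt)
    have := orderOf_dvd_of_pow_eq_one hn
    rw [hz.order] at this
    exact hrt ((Nat.prime_dvd_prime_iff_eq hr ht).1 (hr.dvd_of_dvd_pow this))
  obtain ⟨z, hz⟩ := S.symm.exists_isCentral ht htB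
  exact S.not_mem_top hz (S.le_top_of hAT hTne
    ⟨z, mem_part S.nilB hz.mem (n := 1) (by rw [pow_one, ← hz.order, pow_orderOf_eq_one]),
      1, A.one_mem, (mul_one z).symm⟩)

/-- No proper subgroup contains central elements of both factors. -/
theorem not_both {q s : ℕ} {u y : G} (hu : IsCentral A q u) (hy : IsCentral B s y) {H : Subgroup G}
    (hH : H ≠ ⊤) (huH : u ∈ H) (hyH : y ∈ H) : False := by
  set X := zpowers u ⊔ zpowers y with hX
  have hle : X ≤ H := sup_le (zpowers_le.2 huH) (zpowers_le.2 hyH)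
  have hnorm : ∀ {C : Subgroup G} {x : G}, (∀ c ∈ C, c * x = x * c) →
      C ≤ normalizer (zpowers x : Set G) := fun {C x} hc b hb => mem_normalizer_of_le (by
    rw [← map_conj_eq_smul, MonoidHom.map_zpowers, zpowers_le]
    simp only [MulEquiv.coe_toMonoidHom, MulAut.conj_apply]
    rw [hc b hb, mul_inv_cancel_right]
    exact mem_zpowers _)
  refine S.not_live (q := q) (s := s) ⟨_, u, y, fac_normalizer S.fac (hnorm hu.comm) (hnorm hy.comm),
    S.normalizer_ne_top (fun e => hu.ne_one ?_) (fun e => hH (top_le_iff.1 (e ▸ hle))), hu, hy,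
    le_normalizer (mem_sup_left (mem_zpowers u)), le_normalizer (mem_sup_right (mem_zpowers y))⟩
  exact mem_bot.1 (e ▸ mem_sup_left (mem_zpowers u))

end Setup

end Cfsg.Agent.Grp.Wielandt
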