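import Cfsg.Agent.Lib.Grp.Wielandt.Basic
import Cfsg.Agent.Lib.Grp.Baer
import Cfsg.Agent.Lib.Grp.FpfPrime
import Cfsg.Agent.Lib.Transfer.NormalComplement
import Cfsg.Agent.Lib.Char.Integral

/-!
The minimal counterexample: at least two primes on each side, the unique maximal subgroup containing
`A`, and the fusion of central elements.
-/

set_option autoImplicit false
set_option linter.style.haveILetI false
set_option linter.unusedSectionVars false

namespace Cfsg.Agent.Grp.Wielandt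

open scoped Pointwise
open Subgroup

universe u

variable {G : Type u} [Group G] [Finite G]

theorem not_dvd_of_mem_cpl {A : Subgroup G} (hA : Group.IsNilpotent A) {q : ℕ} (hq : q.Prime)
    {x : G} (hx : x ∈ cpl A q) : ¬ q ∣ orderOf x := by
  haveI := Fact.mk hq
  have h := hasNormalPComplement_of_nilpotent (p := q) hA
  have hle : cpl A q ≤ (Cfsg.pResidual q A).map A.subtype := by
    rw [cpl, closure_le]
    rintro y ⟨hy, hd⟩
    refine ⟨⟨y, hy⟩, (Transfer.mem_pResidual_iff h).2 ?_, rfl⟩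
    rw [← orderOf_coe]
    exact ((hq.coprime_iff_not_dvd).2 hd).symm
  obtain ⟨y, hy, rfl⟩ := hle hx
  have := ((Transfer.mem_pResidual_iff h).1 hy).symm
  rw [coe_subtype, orderOf_coe]
  exact hq.coprime_iff_not_dvd.1 this

theorem commute_cpl {A : Subgroup G} (hA : Group.IsNilpotent A) {q : ℕ} (hq : q.Prime) {a c : G}
    (ha : a ∈ A) {n : ℕ} (hn : a ^ q ^ n = 1) (hc : c ∈ cpl A q) : a * c = c * a :=
  Transfer.TypeP.commute_of_coprime_orderOf hA ha (cpl_le A q hc)
    (((hq.coprime_iff_not_dvd.2 (not_dvd_of_mem_cpl hA hq hc)).pow_left n).coprime_dvd_left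
      (orderOf_dvd_of_pow_eq_one hn))

theorem pow_eq_one_of_mem_coreIn {K : Subgroup G} {r : ℕ} {x : G}
    (hx : x ∈ (Cfsg.pCore r K).map K.subtype) : ∃ n, x ^ r ^ n = 1 := by
  obtain ⟨y, hy, rfl⟩ := hx
  obtain ⟨n, hn⟩ := pCore_isPGroup (p := r) (G := K) ⟨y, hy⟩
  exact ⟨n, congrArg (fun z : (Cfsg.pCore r K : Subgroup K) => ((z : K) : G)) hn⟩

theorem fittingIn_eq (K : Subgroup G) :
    fittingIn K = ⨆ r : Nat.Primes, (Cfsg.pCore (r : ℕ) K).map K.subtype := by
  rw [fittingIn, fittingSubgroup_eq_iSup_pCore, Subgroup.map_iSup]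

theorem coreIn_le_fittingIn (K : Subgroup G) {r : ℕ} [Fact r.Prime] :
    (Cfsg.pCore r K).map K.subtype ≤ fittingIn K :=
  Subgroup.map_mono pCore_le_fittingSubgroup

theorem le_normalizer_coreIn (K : Subgroup G) (r : ℕ) :
    K ≤ normalizer ((Cfsg.pCore r K).map K.subtype : Set G) := by
  haveI := pCore_isNormal (p := r) (G := K)
  intro x hx
  refine mem_normalizer_of_le ?_
  rw [← map_conj_eq_smul]
  rintro _ ⟨_, ⟨y, hy, rfl⟩, rfl⟩
  exact ⟨⟨x, hx⟩ * y * ⟨x, hx⟩⁻¹, Normal.conj_mem ‹_› y hy _, rfl⟩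

/-- In a solvable subgroup, an element centralising every `O_r` lies in the Fitting subgroup. -/
theorem mem_fittingIn_of_centralize {K : Subgroup G} (hK : Group.IsSolvable K) {x : G} (hx : x ∈ K)
    (h : ∀ r : ℕ, r.Prime → ∀ f ∈ (Cfsg.pCore r K).map K.subtype, f * x = x * f) :
    x ∈ fittingIn K := by
  refine ⟨⟨x, hx⟩, centralizer_fittingSubgroup_le (G := K) ?_, rfl⟩
  have hle : fittingIn K ≤ centralizer ({x} : Set G) := by
    rw [fittingIn_eq]
    exact iSup_le fun r f hf => mem_centralizer_singleton_iff.2 (h r r.2 f hf)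
  exact fun f hf => Subtype.ext (mem_centralizer_singleton_iff.1
    (hle (mem_map_of_mem K.subtype hf)))

namespace Setup

variable {A B : Subgroup G} (S : Setup A B)
include S

theorem symm : Setup B A :=
  ⟨S.nilB, S.nilA, S.cop.symm, fac_swap S.fac, S.simple, S.nsol, fun H h hf => S.small H h hf.symm⟩

theorem normalizer_ne_top {X : Subgroup G} (h1 : X ≠ ⊥) (h2 : X ≠ ⊤) :
    normalizer (X : Set G) ≠ ⊤ := fun h => by
  rcases S.simple X (normalizer_eq_top_iff.1 h) with e | e
  · exact h1 e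
  · exact h2 e

theorem eq_one_of_conj_mem {H : Subgroup G} (hH : H ≠ ⊤) {x : G}
    (h : ∀ g : G, g * x * g⁻¹ ∈ H) : x = 1 := by
  have hle : normalClosure ({x} : Set G) ≤ H := by
    refine (closure_le _).2 fun y hy => ?_
    obtain ⟨z, hz, hc⟩ := Group.mem_conjugatesOfSet_iff.1 hy
    obtain ⟨g, hg⟩ := isConj_iff.1 hc
    rw [Set.mem_singleton_iff.1 hz] at hg
    exact hg ▸ h g
  rcases S.simple (normalClosure ({x} : Set G)) normalClosure_normal with e | e
  · exact mem_bot.1 (e ▸ subset_normalClosure rfl)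
  · exact absurd (top_le_iff.1 ((e.symm.le).trans hle)) hH

theorem left_ne_top : A ≠ ⊤ := fun h => by
  haveI := S.nilA
  exact S.nsol (isSolvable_of_injective
    (Subgroup.topEquiv.symm.trans (MulEquiv.subgroupCongr h.symm)).toMonoidHom
    (MulEquiv.injective _) inferInstance)

theorem left_ne_bot : A ≠ ⊥ := fun h => S.symm.left_ne_top (by
  rw [eq_top_iff]
  intro g _
  obtain ⟨a, ha, b, hb, e⟩ := S.fac g
  rw [h, mem_bot] at ha
  rw [e, ha, one_mul]; exact hb)

theorem index_eq : A.index = Nat.card B := coprime_index S.cop S.fac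

theorem exists_other_prime (q : ℕ) : ∃ p : ℕ, p.Prime ∧ p ≠ q ∧ p ∣ Nat.card A := by
  by_contra hcon
  push Not at hcon
  obtain ⟨r, y, hr, hy, hyr, hd⟩ := exists_prime_order S.symm.left_ne_bot
  obtain ⟨z, hzB, hzr, hzc⟩ := exists_central_prime S.nilB hr hd
  obtain ⟨p, a, hp, -, -, hpd⟩ := exists_prime_order S.left_ne_bot
  have hpq : p = q := by_contra fun h => hcon p hp h hpd
  obtain ⟨k, hk⟩ : ∃ k, Nat.card A = q ^ k := ⟨_, Nat.eq_prime_pow_of_unique_prime_dvd Nat.card_pos.ne'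
    fun {d} hd hdd => by_contra fun h => hcon d hd h hdd⟩
  have hB : B ≤ centralizer ({z} : Set G) := fun b hb =>
    mem_centralizer_singleton_iff.2 (hzc b hb)
  have hdvd := index_dvd_of_le hB
  rw [S.symm.index_eq, hk] at hdvd
  obtain ⟨i, -, hi⟩ := (Nat.dvd_prime_pow (hpq ▸ hp)).1 hdvd
  haveI : Nontrivial G := ⟨z, 1, fun h => hr.ne_one (by rw [← hzr, h, orderOf_one])⟩
  haveI : IsSimpleGroup G := ⟨fun N hN => S.simple N hN⟩
  have hpr := Char.simple_prime_pow_class q i (hpq ▸ hp) z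
    (fun h => hr.ne_one (by rw [← hzr, h, orderOf_one])) hi
  haveI := Fact.mk hpr
  haveI := isCyclic_of_prime_card (α := G) rfl
  exact S.nsol (Group.isSolvable_of_comm fun x y => IsMulCommutative.is_comm.comm x y)

theorem exists_central_cpl {q : ℕ} (hq : q.Prime) :
    ∃ (p : ℕ) (x : G), p.Prime ∧ p ≠ q ∧ x ∈ cpl A q ∧ orderOf x = p ∧ x ∈ A ∧
      ∀ a ∈ A, a * x = x * a := by
  obtain ⟨p, hp, hne, hd⟩ := S.exists_other_prime q
  obtain ⟨x, hx, ho, hc⟩ := exists_central_prime S.nilA hp hd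
  refine ⟨p, x, hp, hne, mem_cpl hx ?_, ho, hx, hc⟩
  rw [ho]
  exact fun h => hne ((Nat.prime_dvd_prime_iff_eq hq hp).1 h).symm

theorem normalizer_cpl_ne_top {q : ℕ} (hq : q.Prime) : normalizer (cpl A q : Set G) ≠ ⊤ := by
  obtain ⟨p, x, hp, -, hx, ho, -, -⟩ := S.exists_central_cpl hq
  refine S.normalizer_ne_top (fun h => ?_) fun h => S.left_ne_top (top_le_iff.1 (h ▸ cpl_le A q))
  rw [h, mem_bot] at hx
  exact hp.ne_one (by rw [← ho, hx, orderOf_one])

theorem fittingIn_le_left {K : Subgroup G} (hA : A ≤ K) (hK : K ≠ ⊤) : fittingIn K ≤ A := by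
  rw [fittingIn_eq]
  refine iSup_le fun r => ?_
  haveI := Fact.mk r.2
  set N := (Cfsg.pCore (r : ℕ) K).map K.subtype with hN
  have hfacK := fac_of_le S.fac hA
  have hNp : IsPGroup (r : ℕ) N := (pCore_isPGroup (p := (r : ℕ)) (G := K)).map _
  obtain ⟨n, hn⟩ := hNp.exists_card_eq
  by_cases hrB : (r : ℕ) ∣ Nat.card B
  case neg =>
    exact le_left_of_normal S.cop hfacK (map_subtype_le _) (le_normalizer_coreIn K _)
      (hn ▸ (r.2.coprime_iff_not_dvd.2 hrB).pow_left n)
  case pos =>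
    have hrA : ¬ (r : ℕ) ∣ Nat.card A := fun h =>
      r.2.not_dvd_one (S.cop ▸ Nat.dvd_gcd h hrB)
    have hNB : N ≤ B := le_left_of_normal S.cop.symm hfacK.symm (map_subtype_le _)
      (le_normalizer_coreIn K _) (hn ▸ (r.2.coprime_iff_not_dvd.2 hrA).pow_left n)
    intro x hx
    have hx1 : x = 1 := S.eq_one_of_conj_mem S.symm.left_ne_top fun g => by
      obtain ⟨b, hb, a, ha, rfl⟩ := fac_swap S.fac g
      have hax : a * x * a⁻¹ ∈ N := (mem_normalizer_iff.1 (le_normalizer_coreIn K _ (hA ha)) x).1 hx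
      have : b * a * x * (b * a)⁻¹ = b * (a * x * a⁻¹) * b⁻¹ := by group
      rw [this]
      exact B.mul_mem (B.mul_mem hb (hNB hax)) (B.inv_mem hb)
    rw [hx1]; exact A.one_mem

theorem solvable_of_le {K : Subgroup G} (hA : A ≤ K) (hK : K ≠ ⊤) : Group.IsSolvable K :=
  S.small K hK (fac_of_le S.fac hA)

theorem mem_fittingIn_of_central {K : Subgroup G} (hA : A ≤ K) (hK : K ≠ ⊤) {z : G} (hz : z ∈ A)
    (hc : ∀ a ∈ A, a * z = z * a) : z ∈ fittingIn K :=
  mem_fittingIn_of_centralize (S.solvable_of_le hA hK) (hA hz) fun r hr f hf =>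
    haveI := Fact.mk hr
    hc f (S.fittingIn_le_left hA hK (coreIn_le_fittingIn K hf))

/-- A `q`-element of a subgroup containing `A` centralises the part of `A` prime to `q`. -/
theorem commute_cpl_of_le {K : Subgroup G} (hA : A ≤ K) (hK : K ≠ ⊤) {q : ℕ} (hq : q.Prime)
    (hqA : q ∣ Nat.card A) {x : G} (hx : x ∈ K) {n : ℕ} (hn : x ^ q ^ n = 1) {c : G}
    (hc : c ∈ cpl A q) : x * c = c * x := by
  have hqB : ¬ q ∣ Nat.card B := fun h => hq.not_dvd_one (S.cop ▸ Nat.dvd_gcd hqA h)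
  have hFA := S.fittingIn_le_left hA hK
  obtain ⟨k, hk, hle⟩ := exists_conj_le S.nilA S.cop (fac_of_le S.fac hA)
    (show zpowers x ≤ K from zpowers_le.2 hx) (by
      rw [Nat.card_zpowers]
      exact ((hq.coprime_iff_not_dvd.2 hqB).pow_left n).coprime_dvd_left
        (orderOf_dvd_of_pow_eq_one hn))
  set a := k⁻¹ * x * k with ha
  have haA : a ∈ A := ((mem_smul_conj).1 (hle (mem_zpowers x))).1
  have han : a ^ q ^ n = 1 := by
    rw [ha]
    nth_rewrite 2 [← inv_inv k]
    rw [conj_pow, hn, mul_one, mul_inv_cancel]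
  have hxf : ∀ f ∈ fittingIn K, ¬ q ∣ orderOf f → x * f = f * x := by
    intro f hf hfq
    have hf' : k⁻¹ * f * k ∈ fittingIn K := by
      have := (mem_normalizer_iff.1 (le_normalizer_fittingIn K (K.inv_mem hk)) f).1 hf
      rwa [inv_inv] at this
    have := commute_cpl S.nilA hq haA han (mem_cpl (hFA hf') (by
      have e := orderOf_conj' k⁻¹ f
      rw [inv_inv] at e
      rwa [e]))
    rw [ha] at this
    have h2 := congrArg (fun y => k * y * k⁻¹) this
    simpa [mul_assoc] using h2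
  set w := x * c * x⁻¹ * c⁻¹ with hw
  have hwK : w ∈ K := K.mul_mem (K.mul_mem (K.mul_mem hx (hA (cpl_le A q hc))) (K.inv_mem hx))
    (K.inv_mem (hA (cpl_le A q hc)))
  have hwF : w ∈ fittingIn K := by
    refine mem_fittingIn_of_centralize (S.solvable_of_le hA hK) hwK fun r hr f hf => ?_
    haveI := Fact.mk hr
    obtain ⟨i, hi⟩ := pow_eq_one_of_mem_coreIn hf
    have hfF := coreIn_le_fittingIn K hf
    have hcK : c ∈ K := hA (cpl_le A q hc)
    by_cases hrq : r = q
    · subst hrq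
      have hcf : ∀ g ∈ (Cfsg.pCore r K).map K.subtype, g * c = c * g := fun g hg => by
        obtain ⟨j, hj⟩ := pow_eq_one_of_mem_coreIn hg
        exact commute_cpl S.nilA hq (hFA (coreIn_le_fittingIn K hg)) hj hc
      have hf' : x⁻¹ * f * x ∈ (Cfsg.pCore r K).map K.subtype := by
        have := (mem_normalizer_iff.1 (le_normalizer_coreIn K r (K.inv_mem hx)) f).1 hf
        rwa [inv_inv] at this
      have h1 : f * (x * c * x⁻¹) = x * c * x⁻¹ * f := by
        have := congrArg (fun y => x * y * x⁻¹) (hcf _ hf')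
        simpa [mul_assoc] using this
      have h2 : f * c⁻¹ = c⁻¹ * f := (Commute.inv_right (hcf f hf)).eq
      rw [hw, ← mul_assoc, h1, mul_assoc, h2, ← mul_assoc]
    · have hfq : ∀ g ∈ (Cfsg.pCore r K).map K.subtype, x * g = g * x := fun g hg => by
        obtain ⟨j, hj⟩ := pow_eq_one_of_mem_coreIn hg
        refine hxf g (coreIn_le_fittingIn K hg) fun hd => hrq ?_
        exact ((Nat.prime_dvd_prime_iff_eq hq hr).1
          (hq.dvd_of_dvd_pow (hd.trans (orderOf_dvd_of_pow_eq_one hj)))).symm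
      have hf1 : c * f * c⁻¹ ∈ (Cfsg.pCore r K).map K.subtype :=
        (mem_normalizer_iff.1 (le_normalizer_coreIn K r hcK) f).1 hf
      have e1 : x * f = f * x := hfq f hf
      have hf2 : c⁻¹ * f * c ∈ (Cfsg.pCore r K).map K.subtype := by
        have := (mem_normalizer_iff.1 (le_normalizer_coreIn K r (K.inv_mem hcK)) f).1 hf
        rwa [inv_inv] at this
      have e2 : x * (c⁻¹ * f * c) = (c⁻¹ * f * c) * x := hfq _ hf2
      calc f * w = (f * x) * c * x⁻¹ * c⁻¹ := by rw [hw]; group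
        _ = x * c * ((c⁻¹ * f * c) * x⁻¹) * c⁻¹ := by rw [← e1]; group
        _ = x * c * (x⁻¹ * (c⁻¹ * f * c)) * c⁻¹ := by
          rw [(Commute.inv_left e2 : Commute x⁻¹ _).eq]
        _ = w * f := by rw [hw]; group
  have hwc : w ∈ cpl A q := by
    refine (cpl A q).mul_mem (mem_cpl ?_ ?_) ((cpl A q).inv_mem hc)
    · have : x * c * x⁻¹ = w * c := by rw [hw, inv_mul_cancel_right]
      rw [this]; exact A.mul_mem (hFA hwF) (cpl_le A q hc)
    · rw [orderOf_conj']; exact not_dvd_of_mem_cpl S.nilA hq hc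
  have hwq := not_dvd_of_mem_cpl S.nilA hq hwc
  have hxw : x * w = w * x := hxf w hwF hwq
  have hxc : x * c * x⁻¹ = w * c := by rw [hw, inv_mul_cancel_right]
  have hiter : ∀ i : ℕ, x ^ i * c * (x ^ i)⁻¹ = w ^ i * c := by
    intro i
    induction i with
    | zero => simp
    | succ i ih =>
      calc x ^ (i + 1) * c * (x ^ (i + 1))⁻¹ = x * (x ^ i * c * (x ^ i)⁻¹) * x⁻¹ := by
            rw [pow_succ']; group
        _ = x * (w ^ i * c) * x⁻¹ := by rw [ih]
        _ = w ^ i * (x * c * x⁻¹) := by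
            rw [← mul_assoc x, ((show Commute x w from hxw).pow_right i).eq]; group
        _ = w ^ (i + 1) * c := by rw [hxc, pow_succ]; group
  have hwn : w ^ q ^ n = 1 := by
    have := hiter (q ^ n)
    rw [hn] at this
    simpa using this
  have hw1 : w = 1 := by
    rw [← orderOf_eq_one_iff]
    exact Nat.Coprime.eq_one_of_dvd ((hq.coprime_iff_not_dvd.2 hwq).pow_left n).symm
      (orderOf_dvd_of_pow_eq_one hwn)
  rw [hw1, one_mul] at hxc
  exact mul_inv_eq_iff_eq_mul.1 hxc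

/-- Two maximal proper subgroups containing `A` coincide. -/
theorem maximal_unique {K₁ K₂ : Subgroup G} (h₁ : A ≤ K₁) (h₂ : A ≤ K₂)
    (hm₁ : IsCoatom K₁) (hm₂ : IsCoatom K₂) : K₁ = K₂ := by
  let T : Subgroup G → Set G := fun K =>
    {x | x ∈ K ∧ ∃ (q n : ℕ), q.Prime ∧ q ∣ Nat.card A ∧ x ^ q ^ n = 1}
  have key : ∀ K L : Subgroup G, A ≤ K → A ≤ L → IsCoatom K → IsCoatom L → T K ⊆ T L := by
    rintro K L hK hL hmK hmL x ⟨hx, q, n, hq, hqA, hn⟩
    obtain ⟨p, z, hp, hpq, -, hzo, hzA, hzc⟩ := S.exists_central_cpl hq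
    have hzF := S.mem_fittingIn_of_central hL hmL.1 hzA hzc
    haveI := Fact.mk hp
    set N := (Cfsg.pCore p L).map L.subtype with hN
    have hNA : N ≤ A := (coreIn_le_fittingIn L).trans (S.fittingIn_le_left hL hmL.1)
    have hNne : N ≠ ⊥ := by
      intro h
      have hle : fittingIn L ≤ cpl A p := by
        rw [fittingIn_eq]
        refine iSup_le fun r => ?_
        haveI := Fact.mk r.2
        by_cases hrp : (r : ℕ) = p
        · rw [hrp, ← hN, h]; exact bot_le
        · intro f hf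
          obtain ⟨i, hi⟩ := pow_eq_one_of_mem_coreIn hf
          exact mem_cpl (S.fittingIn_le_left hL hmL.1 (coreIn_le_fittingIn L hf)) fun hd => hrp
            ((Nat.prime_dvd_prime_iff_eq hp r.2).1
              (hp.dvd_of_dvd_pow (hd.trans (orderOf_dvd_of_pow_eq_one hi)))).symm
      exact not_dvd_of_mem_cpl S.nilA hp (hle hzF) (dvd_of_eq hzo.symm)
    have hxN : x ∈ normalizer (N : Set G) := by
      refine mem_normalizer_of_le ?_
      rw [← map_conj_eq_smul]
      rintro _ ⟨f, hf, rfl⟩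
      obtain ⟨i, hi⟩ := pow_eq_one_of_mem_coreIn hf
      have hfc : f ∈ cpl A q := mem_cpl (hNA hf) fun hd => hpq
        ((Nat.prime_dvd_prime_iff_eq hq hp).1
          (hq.dvd_of_dvd_pow (hd.trans (orderOf_dvd_of_pow_eq_one hi)))).symm
      simp only [MulEquiv.coe_toMonoidHom, MulAut.conj_apply]
      rw [S.commute_cpl_of_le hK hmK.1 hq hqA hx hn hfc, mul_inv_cancel_right]
      exact hf
    have hNeq : normalizer (N : Set G) = L := by
      refine (eq_or_lt_of_le (le_normalizer_coreIn L p)).resolve_right (fun hlt => ?_) |>.symm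
      exact S.normalizer_ne_top hNne (fun e => S.left_ne_top (top_le_iff.1 (e ▸ hNA)))
        (hmL.2 _ hlt)
    exact ⟨hNeq ▸ hxN, q, n, hq, hqA, hn⟩
  have hT : T K₁ = T K₂ := (key _ _ h₁ h₂ hm₁ hm₂).antisymm (key _ _ h₂ h₁ hm₂ hm₁)
  set Y := closure (T K₁) with hY
  have hnorm : ∀ K : Subgroup G, K ≤ normalizer (closure (T K) : Set G) := by
    intro K g hg
    refine mem_normalizer_of_le ?_
    rw [← map_conj_eq_smul, map_le_iff_le_comap, closure_le]
    rintro x ⟨hx, q, n, hq, hqA, hn⟩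
    refine subset_closure ⟨K.mul_mem (K.mul_mem hg hx) (K.inv_mem hg), q, n, hq, hqA, ?_⟩
    simp only [MulEquiv.coe_toMonoidHom, MulAut.conj_apply]
    rw [conj_pow, hn, mul_one, mul_inv_cancel]
  by_contra hne
  have hsup : K₁ ⊔ K₂ ≤ normalizer (Y : Set G) :=
    sup_le (hnorm K₁) (by rw [hY, hT]; exact hnorm K₂)
  have htop : K₁ ⊔ K₂ = ⊤ := hm₁.2 _ (lt_of_le_of_ne le_sup_left fun h => hne (by
    rcases eq_or_lt_of_le (h ▸ le_sup_right : K₂ ≤ K₁) with e | e
    · exact e.symm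
    · exact absurd (hm₂.2 _ e) hm₁.1))
  rw [htop, top_le_iff] at hsup
  refine S.normalizer_ne_top (fun h => ?_) (fun h => hm₁.1 ?_) hsup
  · obtain ⟨p, z, hp, hz, hzo, hd⟩ := exists_prime_order S.left_ne_bot
    have hzY : z ∈ Y := subset_closure ⟨h₁ hz, p, 1, hp, hd, by rw [pow_one, ← hzo, pow_orderOf_eq_one]⟩
    rw [h, mem_bot] at hzY
    exact hp.ne_one (by rw [← hzo, hzY, orderOf_one])
  · exact top_le_iff.1 (h ▸ (closure_le _).2 fun x hx => hx.1)

theorem exists_maximal {K : Subgroup G} (hK : K ≠ ⊤) : ∃ M : Subgroup G, IsCoatom M ∧ K ≤ M :=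
  (eq_top_or_exists_le_coatom K).resolve_left hK

/-- The unique maximal subgroup containing `A`. -/
theorem exists_unique_maximal :
    ∃ L : Subgroup G, A ≤ L ∧ L ≠ ⊤ ∧ ∀ K : Subgroup G, A ≤ K → K ≠ ⊤ → K ≤ L := by
  obtain ⟨L, hL, hAL⟩ := S.exists_maximal S.left_ne_top
  refine ⟨L, hAL, hL.1, fun K hAK hK => ?_⟩
  obtain ⟨M, hM, hKM⟩ := S.exists_maximal hK
  rwa [S.maximal_unique hAL (hAK.trans hKM) hL hM]

/-- The maximal subgroup over `A`. -/
noncomputable def top : Subgroup G := S.exists_unique_maximal.choose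

theorem le_top' : A ≤ S.top := S.exists_unique_maximal.choose_spec.1

theorem top_ne_top : S.top ≠ ⊤ := S.exists_unique_maximal.choose_spec.2.1

theorem le_top_of {K : Subgroup G} (hA : A ≤ K) (hK : K ≠ ⊤) : K ≤ S.top :=
  S.exists_unique_maximal.choose_spec.2.2 K hA hK

theorem normalizer_cpl_le {q : ℕ} (hq : q.Prime) : normalizer (cpl A q : Set G) ≤ S.top :=
  S.le_top_of (le_normalizer_cpl A q) (S.normalizer_cpl_ne_top hq)

theorem centralizer_central_le {u : G} (hu : u ≠ 1) (hc : ∀ a ∈ A, a * u = u * a) :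
    centralizer ({u} : Set G) ≤ S.top := by
  refine S.le_top_of (fun a ha => mem_centralizer_singleton_iff.2 (hc a ha)) fun h => hu ?_
  refine S.eq_one_of_conj_mem (H := zpowers u) (fun e => ?_) fun g => ?_
  · haveI : IsCyclic G := isCyclic_iff_exists_zpowers_eq_top.2 ⟨u, e⟩
    exact S.nsol (Group.isSolvable_of_comm fun x y => IsMulCommutative.is_comm.comm x y)
  · have := mem_centralizer_singleton_iff.1 (show g ∈ centralizer ({u} : Set G) from h ▸ mem_top g)
    rw [this, mul_inv_cancel_right]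
    exact mem_zpowers u

/-- A central element of `A` does not lie in a proper subgroup containing `B`. -/
theorem central_not_mem {u : G} (hu : u ≠ 1) (hc : ∀ a ∈ A, a * u = u * a) {K : Subgroup G}
    (hB : B ≤ K) (hK : K ≠ ⊤) : u ∉ K := fun h => hu (S.eq_one_of_conj_mem hK fun g => by
  obtain ⟨b, hb, a, ha, rfl⟩ := fac_swap S.fac g
  have : b * a * u * (b * a)⁻¹ = b * u * b⁻¹ := by
    rw [mul_assoc b a u, hc a ha]; group
  rw [this]
  exact K.mul_mem (K.mul_mem (hB hb) h) (K.inv_mem (hB hb)))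

/-- Conjugating a central `q`-element of `A` into `A` happens inside the maximal subgroup. -/
theorem mem_top_of_conj_mem {q : ℕ} (hq : q.Prime) {u : G} (huo : orderOf u = q)
    (hc : ∀ a ∈ A, a * u = u * a) {g : G} (hg : g * u * g⁻¹ ∈ A) : g ∈ S.top := by
  have hu : u ≠ 1 := fun h => hq.ne_one (by rw [← huo, h, orderOf_one])
  have hle : cpl A q ≤ MulAut.conj g • S.top := fun c hcm => by
    have h1 := commute_cpl S.nilA hq hg (n := 1)
      (by rw [pow_one, ← huo, conj_pow, pow_orderOf_eq_one, mul_one, mul_inv_cancel]) hcm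
    rw [mem_smul_conj]
    refine S.centralizer_central_le hu hc (mem_centralizer_singleton_iff.2 ?_)
    have h2 := congrArg (fun y => g⁻¹ * y * g) h1
    simpa [mul_assoc] using h2.symm
  have hL := fac_of_le S.fac S.le_top'
  have hD : MulAut.conj g⁻¹ • cpl A q ≤ S.top := by
    intro y hy
    rw [mem_smul_conj, inv_inv] at hy
    have := hle hy
    rw [mem_smul_conj] at this
    simpa [mul_assoc] using this
  obtain ⟨k, hk, hkle⟩ := exists_conj_le S.nilA S.cop hL hD
    (by rw [card_conj_smul]; exact S.cop.coprime_dvd_left (card_dvd_of_le (cpl_le A q)))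
  have hn : k⁻¹ * g⁻¹ ∈ normalizer (cpl A q : Set G) := by
    refine mem_normalizer_of_le (conj_cpl_le fun x hx hxq => ?_)
    have := hkle (smul_mem_pointwise_smul x (MulAut.conj g⁻¹) _ (mem_cpl hx hxq))
    rw [mem_smul_conj, MulAut.smul_def, MulAut.conj_apply] at this
    simpa [mul_assoc] using this.1
  have h1 := S.normalizer_cpl_le hq hn
  have : g = (k⁻¹ * g⁻¹)⁻¹ * k⁻¹ := by group
  rw [this]
  exact S.top.mul_mem (S.top.inv_mem h1) (S.top.inv_mem hk)

end Setup

end Cfsg.Agent.Grp.Wielandt
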