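import Cfsg.Agent.Lib.Grp.Wielandt.Key
import Cfsg.Agent.Lib.Invol.ZJFunctor
import Cfsg.Agent.S0117

/-!
Consequences in a minimal counterexample: odd order, `A` is normal in the maximal subgroup over it
and is a trivial intersection subgroup.
-/

set_option autoImplicit false
set_option linter.style.haveILetI false
set_option linter.unusedSectionVars false

namespace Cfsg.Agent.Grp.Wielandt

open scoped Pointwise
open Subgroup

universe u

variable {G : Type u} [Group G] [Finite G]

theorem le_of_parts {A H : Subgroup G}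
    (h : ∀ (p n : ℕ) (x : G), p.Prime → p ∣ Nat.card A → x ∈ A → x ^ p ^ n = 1 → x ∈ H) : A ≤ H := by
  have : A ≤ A ⊓ H := by
    refine (le_of_forall_sylow inf_le_left fun r hr => ?_).trans le_rfl
    obtain ⟨X, hX⟩ := exists_isSylowIn r A
    refine ⟨X, hX, fun x hx => ⟨hX.1 hx, ?_⟩⟩
    obtain ⟨n, hn⟩ := hX.2.1 ⟨x, hx⟩
    by_cases hd : r ∣ Nat.card A
    · exact h r n x hr.out hd (hX.1 hx) (congrArg Subtype.val hn)
    · have h1 : orderOf x ∣ r ^ n := orderOf_dvd_of_pow_eq_one (congrArg Subtype.val hn)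
      have h2 : orderOf x = 1 := Nat.Coprime.eq_one_of_dvd
        (((hr.out.coprime_iff_not_dvd.2 hd).pow_left n).coprime_dvd_left h1) (A.orderOf_dvd_natCard (hX.1 hx))
      rw [orderOf_eq_one_iff] at h2
      rw [h2]; exact H.one_mem
  exact this.trans inf_le_right

theorem centralizer_ne_top {A B : Subgroup G} (S : Setup A B) {x : G} (hx : x ≠ 1) :
    centralizer ({x} : Set G) ≠ ⊤ := fun h => by
  refine hx (S.eq_one_of_conj_mem (H := zpowers x) (fun e => ?_) fun g => ?_)
  · haveI : IsCyclic G := isCyclic_iff_exists_zpowers_eq_top.2 ⟨x, e⟩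
    exact S.nsol (Group.isSolvable_of_comm fun x y => IsMulCommutative.is_comm.comm x y)
  · rw [mem_centralizer_singleton_iff.1 (show g ∈ centralizer ({x} : Set G) from h ▸ mem_top g),
      mul_inv_cancel_right]
    exact mem_zpowers x

namespace Setup

variable {A B : Subgroup G} (S : Setup A B)
include S

/-- A central element of `A` normalises no nontrivial subgroup of order prime to `|A|`. -/
theorem eq_bot_of_normalized {q : ℕ} {u : G} (hu : IsCentral A q u) {D : Subgroup G}
    (hD : (Nat.card D).Coprime (Nat.card A)) (hn : u ∈ normalizer (D : Set G)) : D = ⊥ := by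
  obtain ⟨g, -, hg⟩ := exists_conj_le S.nilB S.cop.symm (fac_of_le S.symm.fac (H := ⊤) le_top)
    (le_top : D ≤ ⊤) hD
  rw [inf_top_eq] at hg
  obtain ⟨a, ha, b, hb, rfl⟩ := S.fac g
  set D' := MulAut.conj a⁻¹ • D with hD'
  have hDB : D' ≤ B := by
    intro x hx
    rw [mem_smul_conj, inv_inv] at hx
    have h1 := hg hx
    rw [mem_smul_conj] at h1
    have : x = b * ((a * b)⁻¹ * (a * x * a⁻¹) * (a * b)) * b⁻¹ := by group
    rw [this]
    exact B.mul_mem (B.mul_mem hb h1) (B.inv_mem hb)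
  by_contra hne
  have hne' : D' ≠ ⊥ := fun e => hne (card_eq_one.1 (by rw [← card_conj_smul a⁻¹ D, ← hD', e, card_bot]))
  obtain ⟨s, x, hs, hx, -, hsB⟩ := exists_prime_order S.symm.left_ne_bot
  obtain ⟨y, hy⟩ := S.symm.exists_isCentral hs hsB
  refine S.not_both hu hy
    (S.normalizer_ne_top hne' fun e => S.symm.left_ne_top (top_le_iff.1 (e ▸ hDB))) ?_ ?_
  · refine mem_normalizer_of_le fun x hx => ?_
    rw [mem_smul_conj, mem_smul_conj, inv_inv] at hx
    rw [mem_smul_conj, inv_inv]
    have := (mem_normalizer_iff.1 hn _).1 hx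
    convert this using 1
    have e : a * u = u * a := hu.comm a ha
    calc a * x * a⁻¹ = u * (u⁻¹ * (a * x * a⁻¹) * u) * u⁻¹ := by group
      _ = u * ((u⁻¹ * a) * x * (a⁻¹ * u)) * u⁻¹ := by group
      _ = u * (a * (u⁻¹ * x * u) * a⁻¹) * u⁻¹ := by
        rw [show u⁻¹ * a = a * u⁻¹ from ((Commute.inv_left (show Commute u a from e.symm))).eq,
          show a⁻¹ * u = u * a⁻¹ from ((Commute.inv_left (show Commute a u from e))).eq]
        group
  · refine mem_normalizer_of_le ?_
    rw [← map_conj_eq_smul]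
    rintro _ ⟨f, hf, rfl⟩
    simp only [MulEquiv.coe_toMonoidHom, MulAut.conj_apply]
    rw [← hy.comm f (hDB hf), mul_inv_cancel_right]
    exact hf

/-- The centralizer of a central element of prime order of `A` is `A`. -/
theorem mem_of_commute {q : ℕ} {u : G} (hu : IsCentral A q u) {g : G} (hg : g * u = u * g) :
    g ∈ A := by
  obtain ⟨a, ha, b, hb, rfl⟩ := S.fac g
  have hbu : b * u = u * b := by
    have : a * (b * u) = a * (u * b) := by
      rw [← mul_assoc, hg, ← mul_assoc, ← hu.comm a ha, mul_assoc]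
    exact mul_left_cancel this
  have : zpowers b = ⊥ := S.eq_bot_of_normalized hu
    (S.cop.symm.coprime_dvd_left (by rw [Nat.card_zpowers]; exact B.orderOf_dvd_natCard hb)) (by
      refine mem_normalizer_of_le ?_
      rw [← map_conj_eq_smul, MonoidHom.map_zpowers, zpowers_le]
      simp only [MulEquiv.coe_toMonoidHom, MulAut.conj_apply]
      rw [← hbu, mul_inv_cancel_right]
      exact mem_zpowers b)
  rw [zpowers_eq_bot] at this
  rw [this, mul_one]; exact ha

theorem not_two_dvd : ¬ 2 ∣ Nat.card A := by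
  intro h2
  obtain ⟨z, hz⟩ := S.exists_isCentral Nat.prime_two h2
  haveI := Fact.mk Nat.prime_two
  have hz2 : z * z = 1 := by rw [← sq, ← hz.order, pow_orderOf_eq_one]
  have hzi : z⁻¹ = z := inv_eq_of_mul_eq_one_left hz2
  have key : ∀ g : G, IsPGroup 2 (closure {z, g * z * g⁻¹}) := by
    intro g
    set z' := g * z * g⁻¹ with hz'
    have hz'2 : z' * z' = 1 := by rw [hz', show g * z * g⁻¹ * (g * z * g⁻¹) = g * (z * z) * g⁻¹ by group, hz2]; group
    set r := z * z' with hr
    have hinv : z * r * z⁻¹ = r⁻¹ := by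
      rw [hr, mul_inv_rev, hzi, ← mul_assoc, hz2, one_mul, inv_eq_of_mul_eq_one_left hz'2]
    have hzn : ∀ x : G, z * x * z⁻¹ = x⁻¹ → z ∈ normalizer (zpowers x : Set G) := fun x hx => by
      refine mem_normalizer_of_le ?_
      rw [← map_conj_eq_smul, MonoidHom.map_zpowers, zpowers_le]
      simp only [MulEquiv.coe_toMonoidHom, MulAut.conj_apply]
      rw [hx]
      exact (zpowers x).inv_mem (mem_zpowers x)
    have hG : Nat.card G = Nat.card A * Nat.card B := by
      rw [← A.card_mul_index, S.index_eq]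
    have hrA : r ^ Nat.card A = 1 := by
      have h1 : zpowers (r ^ Nat.card A) = ⊥ := S.eq_bot_of_normalized hz
        (S.cop.symm.coprime_dvd_left (by
          rw [Nat.card_zpowers]
          exact orderOf_dvd_of_pow_eq_one (by rw [← pow_mul, ← hG, pow_card_eq_one'])))
        (hzn _ (by rw [← conj_pow, hinv, inv_pow]))
      rwa [zpowers_eq_bot] at h1
    have hzr : zpowers z ≤ normalizer (zpowers r : Set G) := zpowers_le.2 (hzn r hinv)
    have hDc : (Nat.card (zpowers z ⊔ zpowers r : Subgroup G)).Coprime (Nat.card B) :=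
      card_sup_coprime_to hzr
        (by rw [Nat.card_zpowers]; exact S.cop.coprime_dvd_left (A.orderOf_dvd_natCard hz.mem))
        (by rw [Nat.card_zpowers]; exact S.cop.coprime_dvd_left (orderOf_dvd_of_pow_eq_one hrA))
    obtain ⟨k, -, hk⟩ := exists_conj_le S.nilA S.cop (fac_of_le S.fac (H := ⊤) le_top)
      (le_top : zpowers z ⊔ zpowers r ≤ ⊤) hDc
    rw [inf_top_eq] at hk
    have hnil : Group.IsNilpotent (MulAut.conj k • A : Subgroup G) := by
      rw [← map_conj_eq_smul]; exact isNilpotent_map S.nilA _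
    have hzk : z ∈ MulAut.conj k • A := hk (mem_sup_left (mem_zpowers z))
    have hz'k : z' ∈ MulAut.conj k • A := by
      have e : z' = z * r := by rw [hr, ← mul_assoc, hz2, one_mul]
      rw [e]
      exact mul_mem hzk (hk (mem_sup_right (mem_zpowers r)))
    refine ((pCore_isPGroup (p := 2) (G := (MulAut.conj k • A : Subgroup G))).map
      (MulAut.conj k • A : Subgroup G).subtype).to_le ((closure_le _).2 ?_)
    rintro x (rfl | rfl)
    · exact mem_part hnil hzk (n := 1) (by rw [pow_one, sq, hz2])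
    · exact mem_part hnil hz'k (n := 1) (by rw [pow_one, sq, hz'2])
  have hcore := baer_suzuki z key
  rcases S.simple _ (pCore_isNormal (p := 2) (G := G)) with e | e
  · rw [e, mem_bot] at hcore
    exact hz.ne_one hcore
  · refine S.nsol ?_
    haveI := ((pCore_isPGroup (p := 2) (G := G)).of_equiv
      ((MulEquiv.subgroupCongr e).trans topEquiv)).isNilpotent
    infer_instance

theorem left_le_top_normalizer : S.top ≤ normalizer (A : Set G) := by
  intro k hk
  refine mem_normalizer_of_le ?_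
  rw [← map_conj_eq_smul, map_le_iff_le_comap]
  refine le_of_parts fun p n x hp hpA hx hn => ?_
  obtain ⟨r, u, hr, -, huc, huo, huA, hucomm⟩ := S.exists_central_cpl hp
  refine S.mem_of_commute ⟨hr, huA, huo, hucomm⟩ (S.commute_cpl_of_le S.le_top' S.top_ne_top hp hpA
    (n := n) ?_ ?_ huc)
  · exact S.top.mul_mem (S.top.mul_mem hk (S.le_top' hx)) (S.top.inv_mem hk)
  · simp only [MulEquiv.coe_toMonoidHom, MulAut.conj_apply]
    rw [conj_pow, hn, mul_one, mul_inv_cancel]

theorem mem_left_of_pow {x : G} (hx : x ∈ S.top) (h : x ^ Nat.card A = 1) : x ∈ A := by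
  obtain ⟨k, hk, hle⟩ := exists_conj_le S.nilA S.cop (fac_of_le S.fac S.le_top')
    (zpowers_le.2 hx) (by rw [Nat.card_zpowers]; exact S.cop.coprime_dvd_left (orderOf_dvd_of_pow_eq_one h))
  have h1 := hle (mem_zpowers x)
  have h2 : x ∈ MulAut.conj k • A :=
    (pointwise_smul_le_pointwise_smul_iff.2 (inf_le_left : A ⊓ S.top ≤ A)) h1
  rwa [mem_normalizer_iff_smul.1 (S.left_le_top_normalizer hk)] at h2

theorem top_symm_symm : S.symm.symm.top = S.top := rfl

theorem commute_inf {a r : G} (ha : a ∈ A) (ha' : a ∈ S.symm.top) (hr : r ∈ B) (hr' : r ∈ S.top) :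
    a * r = r * a := by
  have h1 : a * r * a⁻¹ * r⁻¹ ∈ A ⊓ B := by
    refine ⟨?_, B.mul_mem ((mem_normalizer_iff.1 (S.symm.left_le_top_normalizer ha') r).1 hr)
      (B.inv_mem hr)⟩
    rw [show a * r * a⁻¹ * r⁻¹ = a * (r * a⁻¹ * r⁻¹) by group]
    exact A.mul_mem ha ((mem_normalizer_iff.1 (S.left_le_top_normalizer hr') _).1 (A.inv_mem ha))
  rw [inf_eq_bot_of_coprime S.cop, mem_bot, mul_inv_eq_one, mul_inv_eq_iff_eq_mul] at h1
  exact h1

/-- The centralizer in `A` of a nontrivial element of `B` in `S.top` lies in the maximal subgroup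
over `B`. -/
theorem mem_symm_top_of_commute {r : G} (hr : r ∈ B) (hr' : r ∈ S.top) (hr1 : r ≠ 1) {a : G}
    (ha : a ∈ A) (h : a * r = r * a) : a ∈ S.symm.top := by
  set N := centralizer ({r} : Set G) with hN
  have hfac : Fac A B N := by
    intro g hg
    obtain ⟨α, hα, β, hβ, e⟩ := S.fac g
    have hg' := mem_centralizer_singleton_iff.1 hg
    rw [e] at hg'
    have hβr : β * r * β⁻¹ = α⁻¹ * r * α := by
      have := congrArg (fun x => α⁻¹ * x * β⁻¹) hg'
      simpa [mul_assoc] using this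
    have h1 : β * r * β⁻¹ * r⁻¹ ∈ A ⊓ B := by
      refine ⟨?_, B.mul_mem (B.mul_mem (B.mul_mem hβ hr) (B.inv_mem hβ)) (B.inv_mem hr)⟩
      rw [hβr, show α⁻¹ * r * α * r⁻¹ = α⁻¹ * (r * α * r⁻¹) by group]
      exact A.mul_mem (A.inv_mem hα) ((mem_normalizer_iff.1 (S.left_le_top_normalizer hr') _).1 hα)
    rw [inf_eq_bot_of_coprime S.cop, mem_bot, mul_inv_eq_one, mul_inv_eq_iff_eq_mul] at h1
    have hβN : β ∈ N := mem_centralizer_singleton_iff.2 h1
    refine ⟨α, ⟨hα, ?_⟩, β, ⟨hβ, hβN⟩, e⟩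
    have : α = g * β⁻¹ := by rw [e, mul_inv_cancel_right]
    rw [this]
    exact N.mul_mem hg (N.inv_mem hβN)
  obtain ⟨s, x, hs, -, -, hsB⟩ := exists_prime_order S.symm.left_ne_bot
  obtain ⟨y, hy⟩ := S.symm.exists_isCentral hs hsB
  have hyN : y ∈ N := mem_centralizer_singleton_iff.2 (hy.comm r hr).symm
  have hne : N ≠ ⊤ := centralizer_ne_top S hr1
  have hFB : ∀ t : ℕ, t.Prime → (Cfsg.pCore t N).map N.subtype ≤ B := by
    intro t ht
    haveI := Fact.mk ht
    by_cases htA : t ∣ Nat.card A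
    · obtain ⟨n, hn⟩ := ((pCore_isPGroup (p := t) (G := N)).map N.subtype).exists_card_eq
      have htB : ¬ t ∣ Nat.card B := fun h => ht.not_dvd_one (S.cop ▸ Nat.dvd_gcd htA h)
      rw [S.symm.eq_bot_of_normalized hy (D := (Cfsg.pCore t N).map N.subtype)
        (hn ▸ (ht.coprime_iff_not_dvd.2 htB).pow_left n) (le_normalizer_coreIn N t hyN)]
      exact bot_le
    · exact S.symm.core_le hfac.symm htA
  have hyF : y ∈ fittingIn N := mem_fittingIn_of_centralize (S.small N hne hfac) hyN
    fun t ht f hf => hy.comm f (hFB t ht hf)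
  have hle : fittingIn N ≤ B := by
    rw [fittingIn_eq]; exact iSup_le fun t => hFB t t.2
  have haN : a ∈ N := mem_centralizer_singleton_iff.2 h
  exact S.symm.mem_top_of_conj_mem hs hy.order hy.comm
    (hle ((mem_normalizer_iff.1 (le_normalizer_fittingIn N haN) y).1 hyF))

theorem centralizer_le_of_mem_inf {a : G} (ha : a ∈ A) (ha' : a ∈ S.symm.top) (ha1 : a ≠ 1) :
    centralizer ({a} : Set G) ≤ S.top := by
  intro g hg
  obtain ⟨α, hα, β, hβ, e⟩ := S.fac g
  have hg' := mem_centralizer_singleton_iff.1 hg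
  rw [e] at hg'
  have hβa : β * a * β⁻¹ = α⁻¹ * a * α := by
    have := congrArg (fun x => α⁻¹ * x * β⁻¹) hg'
    simpa [mul_assoc] using this
  have h1 : β * a * β⁻¹ * a⁻¹ ∈ A ⊓ B := by
    refine ⟨?_, ?_⟩
    · rw [hβa]
      exact A.mul_mem (A.mul_mem (A.mul_mem (A.inv_mem hα) ha) hα) (A.inv_mem ha)
    · rw [show β * a * β⁻¹ * a⁻¹ = β * (a * β⁻¹ * a⁻¹) by group]
      exact B.mul_mem hβ ((mem_normalizer_iff.1 (S.symm.left_le_top_normalizer ha') _).1 (B.inv_mem hβ))
  rw [inf_eq_bot_of_coprime S.cop, mem_bot, mul_inv_eq_one, mul_inv_eq_iff_eq_mul] at h1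
  have hβL : β ∈ S.top := by
    have := S.symm.mem_symm_top_of_commute ha ha' ha1 hβ h1
    rwa [S.top_symm_symm] at this
  rw [e]
  exact S.top.mul_mem (S.le_top' hα) hβL

/-- Centralizers of elements of prime order of `A` lie in the maximal subgroup over `A`. -/
theorem centralizer_prime_le {q : ℕ} (hq : q.Prime) {a : G} (ha : a ∈ A) (hao : orderOf a = q) :
    centralizer ({a} : Set G) ≤ S.top := by
  have ha1 : a ≠ 1 := fun h => hq.ne_one (by rw [← hao, h, orderOf_one])
  set C := centralizer ({a} : Set G) with hC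
  by_cases hmix : ∃ r ∈ S.top ⊓ C, r ≠ 1 ∧ r ^ Nat.card B = 1
  · obtain ⟨r, hr, hr1, hrB⟩ := hmix
    obtain ⟨k, hk, hle⟩ := exists_conj_le S.nilB S.cop.symm (fac_of_le S.fac S.le_top').symm
      (zpowers_le.2 hr.1) (by
        rw [Nat.card_zpowers]; exact S.cop.symm.coprime_dvd_left (orderOf_dvd_of_pow_eq_one hrB))
    obtain ⟨α, hα, β, hβ, e⟩ := fac_of_le S.fac S.le_top' k hk
    set r₀ := α⁻¹ * r * α with hr₀
    have hr₀B : r₀ ∈ B := by
      have h1 := (mem_smul_conj.1 (hle (mem_zpowers r))).1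
      rw [e] at h1
      have : r₀ = β * ((α * β)⁻¹ * r * (α * β)) * β⁻¹ := by rw [hr₀]; group
      rw [this]
      exact B.mul_mem (B.mul_mem hβ.1 h1) (B.inv_mem hβ.1)
    have hr₀L : r₀ ∈ S.top :=
      S.top.mul_mem (S.top.mul_mem (S.top.inv_mem hα.2) hr.1) hα.2
    set a₀ := α⁻¹ * a * α with ha₀
    have hcom : a₀ * r₀ = r₀ * a₀ := by
      have := congrArg (fun x => α⁻¹ * x * α) (mem_centralizer_singleton_iff.1 hr.2).symm
      rw [ha₀, hr₀]
      simpa [mul_assoc] using this
    have ha₀A : a₀ ∈ A := A.mul_mem (A.mul_mem (A.inv_mem hα.1) ha) hα.1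
    have hr₀1 : r₀ ≠ 1 := fun h => hr1 (by
      have := congrArg (fun x => α * x * α⁻¹) h
      simpa [hr₀, mul_assoc] using this)
    have hle₀ := S.centralizer_le_of_mem_inf ha₀A
      (S.mem_symm_top_of_commute hr₀B hr₀L hr₀1 ha₀A hcom)
      (fun h => ha1 (by
        have := congrArg (fun x => α * x * α⁻¹) h
        simpa [ha₀, mul_assoc] using this))
    intro g hg
    have : α⁻¹ * g * α ∈ S.top := hle₀ (mem_centralizer_singleton_iff.2 (by
      have := congrArg (fun x => α⁻¹ * x * α) (mem_centralizer_singleton_iff.1 hg)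
      rw [ha₀]
      simpa [mul_assoc] using this))
    have h2 := S.top.mul_mem (S.top.mul_mem hα.2 this) (S.top.inv_mem hα.2)
    simpa [mul_assoc] using h2
  push Not at hmix
  have hG : Nat.card G = Nat.card A * Nat.card B := by rw [← A.card_mul_index, S.index_eq]
  have hLC : ∀ x ∈ S.top ⊓ C, x ∈ A := by
    intro x hx
    obtain ⟨c, d, hc, hd, hcm, hdn, e⟩ := exists_pow_decomp S.cop
      (show x ^ (Nat.card A * Nat.card B) = 1 by rw [← hG, pow_card_eq_one'])
    have hd1 : d = 1 := by_contra fun h => hmix d (zpowers_le.2 hx hd) h hdn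
    rw [e, hd1, mul_one]
    exact S.mem_left_of_pow (zpowers_le.2 hx hc).1 hcm
  obtain ⟨p, hp, hpq, hpA⟩ := S.exists_other_prime q
  have hp2 : p ≠ 2 := fun h => S.not_two_dvd (h ▸ hpA)
  haveI := Fact.mk hp
  set P := part A p with hP
  have hPC : P ≤ C := fun x hx => by
    obtain ⟨n, hn⟩ := exists_pow_of_mem_part hx
    refine mem_centralizer_singleton_iff.2 ?_
    refine Transfer.TypeP.commute_of_coprime_orderOf S.nilA (map_subtype_le _ hx) ha ?_
    rw [hao]
    exact (((Nat.coprime_primes hp hq).2 hpq).pow_left n).coprime_dvd_left (orderOf_dvd_of_pow_eq_one hn)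
  have hPp : IsPGroup p P := (pCore_isPGroup (p := p) (G := A)).map _
  obtain ⟨T, hT⟩ := (hPp.comap_subtype (K := C)).exists_le_sylow
  have hTeq : (T : Subgroup C).map C.subtype = P := by
    refine (eq_of_le_of_card_ge ?_ ?_).symm
    · intro x hx
      exact ⟨⟨x, hPC hx⟩, hT hx, rfl⟩
    · have hTp : IsPGroup p ((T : Subgroup C).map C.subtype) := T.isPGroup'.map _
      obtain ⟨n, hn⟩ := hTp.exists_card_eq
      have hpB : ¬ p ∣ Nat.card B := fun h => hp.not_dvd_one (S.cop ▸ Nat.dvd_gcd hpA h)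
      obtain ⟨g, -, hg⟩ := exists_conj_le S.nilA S.cop (fac_of_le S.fac (H := ⊤) le_top)
        (le_top : (T : Subgroup C).map C.subtype ≤ ⊤)
        (hn ▸ (hp.coprime_iff_not_dvd.2 hpB).pow_left n)
      rw [inf_top_eq] at hg
      rw [← card_conj_smul g⁻¹ ((T : Subgroup C).map C.subtype)]
      refine card_le_of_le fun x hx => ?_
      rw [mem_smul_conj, inv_inv] at hx
      have h1 := hg hx
      rw [mem_smul_conj] at h1
      have hxA : x ∈ A := by simpa [mul_assoc] using h1
      refine mem_part S.nilA hxA (n := n) ?_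
      have := pow_card_eq_one' (G := (T : Subgroup C).map C.subtype) (x := ⟨_, hx⟩)
      rw [hn] at this
      have h2 : (g * x * g⁻¹) ^ p ^ n = 1 := congrArg Subtype.val this
      rwa [conj_pow, mul_inv_eq_one, mul_eq_left] at h2
  have hPne : P ≠ ⊥ := by
    obtain ⟨x, hx⟩ := S.exists_isCentral hp hpA
    intro h
    have : x ∈ P := mem_part S.nilA hx.mem (n := 1) (by rw [pow_one, ← hx.order, pow_orderOf_eq_one])
    rw [h, mem_bot] at this
    exact hx.ne_one this
  set Z := Cfsg.centerThompsonOf p P with hZ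
  have hZA : A ≤ normalizer (Z : Set G) := by
    refine le_trans (fun x hx => ?_) (Invol.isZJFunctor_centerEl.normalizer_le P)
    refine mem_normalizer_of_le ?_
    rw [← map_conj_eq_smul]
    rintro _ ⟨f, hf, rfl⟩
    obtain ⟨n, hn⟩ := exists_pow_of_mem_part hf
    refine mem_part S.nilA (A.mul_mem (A.mul_mem hx (map_subtype_le _ hf)) (A.inv_mem hx)) (n := n) ?_
    simp only [MulEquiv.coe_toMonoidHom, MulAut.conj_apply]
    rw [conj_pow, hn, mul_one, mul_inv_cancel]
  have hZL : normalizer (Z : Set G) ≤ S.top := by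
    refine S.le_top_of hZA (S.normalizer_ne_top (Invol.isZJFunctor_centerEl.ne_bot hPp hPne) fun e => ?_)
    exact S.left_ne_top (top_le_iff.1 (e ▸ (Invol.isZJFunctor_centerEl.le P).trans (map_subtype_le _)))
  have hnpc : Cfsg.HasNormalPComplement p C := by
    rw [S0117.result hp2 T]
    refine hasNormalPComplement_of_nilpotent ?_
    set N := normalizer (Cfsg.centerThompsonOf p (T : Subgroup C) : Set C) with hN
    have hmap : N.map C.subtype ≤ A := by
      rintro _ ⟨g, hg, rfl⟩
      refine hLC _ ⟨hZL (mem_normalizer_of_le ?_), g.2⟩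
      rw [hZ, ← hTeq, ← Invol.centerEl_map C.subtype (T : Subgroup C)
        (fun x _ h => Subtype.ext h), ← map_conj_eq_smul]
      rintro _ ⟨_, ⟨f, hf, rfl⟩, rfl⟩
      exact ⟨g * f * g⁻¹, (mem_normalizer_iff.1 hg f).1 hf, rfl⟩
    haveI := isNilpotent_of_le hmap S.nilA
    exact Group.nilpotent_of_mulEquiv (equivMapOfInjective N C.subtype C.subtype_injective).symm
  obtain ⟨T₀, K, hKn, hKc⟩ := hnpc
  obtain ⟨x, hx⟩ := S.exists_isCentral hp hpA
  have hxC : x ∈ C := mem_centralizer_singleton_iff.2 (hx.comm a ha).symm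
  set K' := K.map C.subtype with hK'
  have hK'd : ¬ p ∣ Nat.card K' := by
    rw [hK', card_map_of_injective C.subtype_injective]
    exact Transfer.not_dvd_card_of_isComplement' T₀ hKc
  have hnK : zpowers x ≤ normalizer (K' : Set G) := by
    rw [zpowers_le]
    refine mem_normalizer_of_le ?_
    rw [← map_conj_eq_smul]
    rintro _ ⟨_, ⟨f, hf, rfl⟩, rfl⟩
    exact ⟨⟨x, hxC⟩ * f * ⟨x, hxC⟩⁻¹, hKn.conj_mem f hf _, rfl⟩
  have hcopK : (Nat.card (zpowers x)).Coprime (Nat.card K') := by
    rw [Nat.card_zpowers, hx.order]; exact hp.coprime_iff_not_dvd.2 hK'd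
  have hCB : (Nat.card C).Coprime (Nat.card B) := by
    refine Nat.coprime_of_dvd fun s hs hsC hsB => ?_
    haveI := Fact.mk hs
    have hsK : s ∣ Nat.card K' := by
      rw [hK', card_map_of_injective C.subtype_injective]
      rw [← hKc.card_mul, T₀.card_eq_multiplicity] at hsC
      refine (hs.dvd_mul.1 hsC).resolve_right fun h => ?_
      have hsp : s = p := (Nat.prime_dvd_prime_iff_eq hs hp).1 (hs.dvd_of_dvd_pow h)
      exact hp.not_dvd_one (S.cop ▸ Nat.dvd_gcd hpA (hsp ▸ hsB))
    obtain ⟨X, hX, hXn⟩ := exists_invariant_sylow (zpowers x) K' hnK hcopK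
      (Or.inl (Group.isSolvable_of_comm fun u v => IsMulCommutative.is_comm.comm u v)) s
    obtain ⟨n, hn⟩ := hX.2.1.exists_card_eq
    have hsA : ¬ s ∣ Nat.card A := fun h => hs.not_dvd_one (S.cop ▸ Nat.dvd_gcd h hsB)
    have := S.eq_bot_of_normalized hx (D := X) (hn ▸ (hs.coprime_iff_not_dvd.2 hsA).pow_left n)
      (hXn (mem_zpowers x))
    exact hX.2.2 (by rw [this, relIndex_bot_left]; exact hsK)
  obtain ⟨g, -, hg⟩ := exists_conj_le S.nilA S.cop (fac_of_le S.fac (H := ⊤) le_top)
    (le_top : C ≤ ⊤) hCB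
  rw [inf_top_eq] at hg
  have hgn : g⁻¹ ∈ normalizer (cpl A q : Set G) := by
    refine mem_normalizer_of_le (conj_cpl_le fun y hy hyq => ?_)
    rw [inv_inv]
    refine mem_smul_conj.1 (hg (mem_centralizer_singleton_iff.2 ?_))
    exact (commute_cpl S.nilA hq ha (n := 1) (by rw [pow_one, ← hao, pow_orderOf_eq_one]) (mem_cpl hy hyq)).symm
  have hgL := S.normalizer_cpl_le hq hgn
  refine hg.trans fun y hy => ?_
  rw [mem_normalizer_iff_smul.1 (S.left_le_top_normalizer ((S.top.inv_mem hgL) |> fun h => by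
    rwa [inv_inv] at h))] at hy
  exact S.le_top' hy

/-- `A` is a trivial intersection subgroup with normalizer `S.top`. -/
theorem mem_top_of_conj_mem_left {a g : G} (ha : a ∈ A) (ha1 : a ≠ 1) (hg : g⁻¹ * a * g ∈ A) :
    g ∈ S.top := by
  obtain ⟨p, x, hp, hx, hxo, -⟩ := exists_prime_order (X := zpowers a)
    (by rwa [ne_eq, zpowers_eq_bot])
  have hxA : x ∈ A := zpowers_le.2 ha hx
  have hx' : g⁻¹ * x * g ∈ A := by
    have hle : zpowers a ≤ A.comap (MulAut.conj g⁻¹).toMonoidHom := zpowers_le.2 (by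
      simpa using hg)
    simpa using hle hx
  have hgn : g⁻¹ ∈ normalizer (cpl A p : Set G) := by
    -- generators of `cpl A p` are conjugated back into `A`
    suffices g ∈ normalizer (cpl A p : Set G) from (normalizer _).inv_mem this
    refine mem_normalizer_of_le (conj_cpl_le fun y hy hyp => ?_)
    refine S.mem_left_of_pow (S.centralizer_prime_le hp hxA hxo (mem_centralizer_singleton_iff.2 ?_)) ?_
    · have h1 := commute_cpl S.nilA hp hx' (n := 1)
        (by
          rw [pow_one]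
          nth_rewrite 2 [← inv_inv g]
          rw [conj_pow, ← hxo, pow_orderOf_eq_one, mul_one, mul_inv_cancel]) (mem_cpl hy hyp)
      have h2 := congrArg (fun z => g * z * g⁻¹) h1
      simpa [mul_assoc] using h2.symm
    · rw [conj_pow]
      have : y ^ Nat.card A = 1 :=
        congrArg Subtype.val (pow_card_eq_one' (G := A) (x := ⟨y, hy⟩))
      rw [this, mul_one, mul_inv_cancel]
  have := S.top.inv_mem (S.normalizer_cpl_le hp hgn)
  rwa [inv_inv] at this

end Setup

end Cfsg.Agent.Grp.Wielandt
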